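import Groth.Agent.ThetaS.K787.ThData
import Groth.Agent.ThetaS.K881.FwdMain
import Groth.Agent.PerfC.RelFlat

/-!
# The criterion implies Θ-completeness of an open substack of coherent sheaves
-/

set_option autoImplicit false
set_option backward.isDefEq.respectTransparency false
set_option backward.isDefEq.respectTransparency.types false
set_option linter.style.haveILetI false

universe u

open CategoryTheory CategoryTheory.Limits MonoidalCategory CartesianMonoidalCategory MonObj GrpObj AlgebraicGeometry Opposite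
open scoped TensorProduct Polynomial

namespace K787.ThConv

section Retr

open Groth.Agent Groth.Agent.CycB.StalkExact Groth.Agent.Fdesc.PullbackStalk Groth.Agent.PerfC.RelFlat

/-- A retract of a module flat over the base is flat over the base. -/
theorem isFlatOver_of_retract {X Y : Scheme.{u}} (f : X ⟶ Y) {M N : X.Modules} (i : M ⟶ N) (r : N ⟶ M)
    (hir : i ≫ r = 𝟙 M) (h : FlatMod.IsFlatOver f N) : FlatMod.IsFlatOver f M := by
  intro x
  letI := stalkAlg f x
  letI := FlatMod.moduleStalkOver f M x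
  haveI := isScalarTower f M x
  letI := FlatMod.moduleStalkOver f N x
  haveI := isScalarTower f N x
  haveI : Module.Flat (Y.presheaf.stalk (f.base x)) (N.presheaf.stalk x) := h x
  refine Module.Flat.of_retract ((stalkLin i x).restrictScalars (Y.presheaf.stalk (f.base x)))
    ((stalkLin r x).restrictScalars (Y.presheaf.stalk (f.base x))) ?_
  ext m
  have h1 := LinearMap.congr_fun (stalkLin_comp i r x) m
  rw [hir, stalkLin_id] at h1
  exact h1.symm

end Retr

section Univ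

open K881.Rees K881.ReesObj

/-- Arrows to an object with a universal family. -/
theorem exists_to_univ {C S : Scheme.{u}} {f : C ⟶ S} (U : Univ f) {B CB : Scheme.{u}} {y : B ⟶ U.B} {iB : CB ⟶ U.Z}
    {qB : CB ⟶ B} (hB : IsPullback iB qB U.q y) {bs : B ⟶ S} (hbs : y ≫ U.hb = bs) {pB : CB ⟶ C} (hpB : iB ≫ U.p = pB)
    (hB' : IsPullback pB qB f (Over.mk bs).hom) (t : B ⟶ U.x.base.left) (ht : t ≫ U.a = y)
    (hax : U.a ≫ U.hb = U.x.base.hom) {s : Γ(U.Z, ⊤)} {M : U.Z.Modules} {ρ : Fam U.D (𝟙 U.Z) s M} (hρ : ρ.IsRees)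
    {MB : CB.Modules} (c : M ⟶ (Scheme.Modules.pushforward iB).obj MB) (hc : ModSt.IsCart iB c)
    (hs : iB.appTop s = qB.appTop (t.appTop U.s)) :
    ∃ m : (⟨Over.mk bs, CB, pB, qB, hB', MB⟩ : ModSt.Obj f) ⟶ U.x, m.base.left = t := by
  have ht' : t ≫ U.x.base.hom = (Over.mk bs).hom := by
    change t ≫ U.x.base.hom = bs
    rw [← hax, ← Category.assoc, ht, hbs]
  have h1 := (hρ.push_iff c).2 hc
  obtain ⟨m, hm, -⟩ := exists_hom U
    (e := (⟨Over.mk bs, CB, pB, qB, hB', MB⟩ : ModSt.Obj f)) (Over.homMk t ht') iB hpB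
    (by
      change iB ≫ U.q = qB ≫ t ≫ U.a
      rw [ht, hB.w])
    ((ρ.push c).cast (Category.comp_id iB) hs) (h1.cast _ _)
  exact ⟨m, by rw [hm]; rfl⟩

end Univ

open ThetaS K951.Pts K943.QuotAtlas K943.QuotCover K881.Rees K881.ReesObj K881.ThetaTr K881.Filt
  K881.ThetaCrit K881.Topo K943.Points K942.Coord K899.OpenCrit K787.ThFam K787.ThGr K787.GrSys K787.ThData

attribute [local instance] K951.Pts.algΓ

section Mono

variable {Y Z : Scheme.{u}} {π : Y ⟶ Z} {s : Γ(Y, ⊤)} {M : Y.Modules} (g : Gr π s M)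

theorem mono_ι (hinj : ∀ V : Z.affineOpens, Function.Injective (fun m : Γ(M, π ⁻¹ᵁ V.1) =>
    Groth.Agent.Ega1.QCohLoc.resO (le_top : π ⁻¹ᵁ V.1 ≤ ⊤) s • m)) (n : ℤ) : Mono (g.ι n) := by
  haveI := g.qc n
  haveI := g.qc (n + 1)
  refine Groth.Agent.Smoothlim.ModKer.mono_of_app_injective _
    (Groth.Agent.CohqB.AffIso.injective_of_affine_cover _ fun z => ?_)
  obtain ⟨V, hV, hz, -⟩ := exists_isAffineOpen_mem_and_subset (U := (⊤ : Z.Opens)) (x := z) trivial
  refine ⟨V, hz, hV, fun k k' hk => ?_⟩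
  apply g.kk_injective V n
  apply hinj ⟨V, hV⟩
  dsimp only
  rw [← g.kk_ι, ← g.kk_ι, hk]

end Mono

section Main

variable {S C : Scheme.{u}} {f : C ⟶ S}

theorem backward [QuasiCompact f] {Q : (ModSt.Coh f).obj → Prop} (hQ : HasOpenLocus Q)
    (R : Type u) [CommRing R] [IsDomain R] [IsDiscreteValuationRing R] (h : Spec (CommRingCat.of R) ⟶ S)
    {ϖ : R} (hϖ : Irreducible ϖ) (K : Type u) [Field K] [Algebra R K] [IsFractionRing R K]
    (crit : ∀ (CR : Scheme.{u}) (p : CR ⟶ C) (q : CR ⟶ Spec (CommRingCat.of R)) (hpb : IsPullback p q f h)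
      (E : CR.Modules) (hE : ModSt.IsCohObj (⟨Over.mk h, CR, p, q, hpb, E⟩ : ModSt.Obj f))
      (F : ℤ →o Subobject E) (_ : ∀ i, Coh.IsQCoh (Subobject.underlying.obj (F i)))
      (a b : ℤ) (_ : ∀ i, i ≤ a → F i = ⊥) (_ : ∀ i, b ≤ i → F i = ⊤)
      (_ : ∀ i, FlatMod.IsFlatOver q (K881.Filt.gr F i))
      (CK : Scheme.{u}) (iK : CK ⟶ CR) (qK : CK ⟶ Spec (CommRingCat.of K))
      (hK : IsPullback iK qK q (Spec.map (CommRingCat.ofHom (algebraMap R K))))
      (Cκ : Scheme.{u}) (iκ : Cκ ⟶ CR) (qκ : Cκ ⟶ Spec (CommRingCat.of (IsLocalRing.ResidueField R)))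
      (hκ : IsPullback iκ qκ q (Spec.map (CommRingCat.ofHom (IsLocalRing.residue R))))
      (_ : Q ⟨⟨Over.mk h, CR, p, q, hpb, E⟩, hE⟩)
      (_ : ∀ hK' : ModSt.IsCohObj (⟨Over.mk (Spec.map (CommRingCat.ofHom (algebraMap R K)) ≫ h),
        CK, iK ≫ p, qK, (hK.flip.paste_vert hpb.flip).flip,
        (Scheme.Modules.pullback iK).obj (∐ fun i : ℤ => K881.Filt.gr F i)⟩ : ModSt.Obj f), Q ⟨_, hK'⟩)
      (hκ' : ModSt.IsCohObj (⟨Over.mk (Spec.map (CommRingCat.ofHom (IsLocalRing.residue R)) ≫ h),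
        Cκ, iκ ≫ p, qκ, (hκ.flip.paste_vert hpb.flip).flip,
        (Scheme.Modules.pullback iκ).obj (∐ fun i : ℤ => K881.Filt.gr F i)⟩ : ModSt.Obj f)), Q ⟨_, hκ'⟩)
    (Φ : Theta Kf.{u} R h ⥤ᵇ ModSt.Coh f) (H : ∀ a, Q (Φ.obj ((thetaIncl Kf.{u} R ϖ h).obj a))) :
    ∀ b, Q (Φ.obj b) := by
  obtain ⟨U, hU1, hU2, -⟩ := exists_locus_theta h hQ Φ
  obtain ⟨hl1, hl2⟩ := forall_iff h Φ ϖ hU1
  have hle : Uline ϖ ≤ U := hl1.1 H
  suffices hUt : U = ⊤ from hl2.2 hUt
  refine eq_top hϖ hle ?_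
  -- geometry
  have hpb : IsPullback (pullback.fst f h) (pullback.snd f h) f h := IsPullback.of_hasPullback f h
  haveI hcs : CompactSpace (pullback f h : Scheme.{u}) := QuasiCompact.compactSpace_of_compactSpace (pullback.snd f h)
  let g := ThData.gr (K := Kf.{u}) Φ hpb
  obtain ⟨a, N, ha, hiso⟩ := g.exists_bd (finite_sections Φ hpb) (smul_injective Φ hpb)
  have hmono : ∀ n, Mono (g.ι n) := mono_ι g (smul_injective Φ hpb)
  haveI := isAffineHom_pi Φ hpb (v0 R h Kf.{u}) inferInstance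
  have hrees : (g.ff N hiso hmono (a - 1)).IsRees := g.isRees_ff N hiso hmono (a - 1)
    (Groth.Agent.PerfC.FPSections.isQCoh_of_isFP (Φ.obj (v0 R h Kf.{u})).property.2) (fun n hn => ha n (by omega))
  let F := g.F N hiso hmono
  have hbot : ∀ i, i ≤ a - 1 → F i = ⊥ := fun i hi => g.F_bot N hiso hmono (ha i (by omega))
  have htop : ∀ i, N ≤ i → F i = ⊤ := fun i hi => g.F_top N hiso hmono hi
  let ee : (ob Φ (v0 R h Kf.{u})).base.left ⟶ (Line R).left := (eqToHom (Φ.w_obj (v0 R h Kf.{u}))).left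
  let ei : (Line R).left ⟶ (ob Φ (v0 R h Kf.{u})).base.left := (eqToHom (Φ.w_obj (v0 R h Kf.{u})).symm).left
  have hei : ei ≫ ee = 𝟙 _ := by
    change (eqToHom (Φ.w_obj (v0 R h Kf.{u})).symm ≫ eqToHom (Φ.w_obj (v0 R h Kf.{u}))).left = _
    rw [eqToHom_trans, eqToHom_refl]; rfl
  have hs0 : sX Φ (h := h) (K := Kf.{u}) = (ob Φ (v0 R h Kf.{u})).q.appTop (ee.appTop (lineFn Polynomial.X)) := by
    rw [sX, qq, Scheme.Hom.comp_appTop]; rfl
  let UU : Univ f :=
    { x := ob Φ (v0 R h Kf.{u})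
      B := Spec (CommRingCat.of R)
      a := ee ≫ (Line R).hom
      Z := pullback f h
      p := pullback.fst f h
      q := pullback.snd f h
      hb := h
      pb := hpb
      π := ThFam.pi Φ hpb (v0 R h Kf.{u})
      hp := pi_p Φ hpb _
      hq := by rw [pi_q, qq, Category.assoc]; rfl
      D := seq F (a - 1)
      s := ee.appTop (lineFn Polynomial.X)
      ρ := (g.ff N hiso hmono (a - 1)).cast rfl hs0
      univ := hrees.cast rfl hs0 }
  have hax : UU.a ≫ UU.hb = UU.x.base.hom := by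
    change (ee ≫ (Line R).hom) ≫ h = _
    rw [Category.assoc]
    exact Over.w (eqToHom (Φ.w_obj (v0 R h Kf.{u})))
  have htt : ∀ {B : Scheme.{u}} (t0 : B ⟶ (Line R).left), (t0 ≫ ei) ≫ UU.a = t0 ≫ (Line R).hom := by
    intro B t0
    change (t0 ≫ ei) ≫ ee ≫ (Line R).hom = _
    rw [Category.assoc, ← Category.assoc ei, hei, Category.id_comp]
  have hts : ∀ {B : Scheme.{u}} (t0 : B ⟶ (Line R).left), (t0 ≫ ei).appTop UU.s = t0.appTop (lineFn Polynomial.X) := by
    intro B t0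
    change (t0 ≫ ei).appTop (ee.appTop (lineFn Polynomial.X)) = _
    have h1 : ((t0 ≫ ei) ≫ ee).appTop (lineFn Polynomial.X) = t0.appTop (lineFn Polynomial.X) := by
      rw [Category.assoc, hei, Category.comp_id]
    rw [Scheme.Hom.comp_appTop] at h1
    exact h1
  have hQm : ∀ {y : ModSt.Obj f} (m : y ⟶ UU.x) (t0 : y.base.left ⟶ (Line R).left) (_ : m.base.left = t0 ≫ ei)
      (hy : ModSt.IsCohObj y), Q ⟨y, hy⟩ ↔ t0 ⁻¹ᵁ U = ⊤ := by
    intro y m t0 hm hy
    rw [hU2 ⟨y, hy⟩ (ObjectProperty.homMk m)]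
    have h1 : (show y.base ⟶ (Over.map h).obj (Line R) from
        (ModSt.Coh f).p.map (ObjectProperty.homMk m : (⟨y, hy⟩ : (ModSt.Coh f).obj) ⟶ Φ.obj (U0 R)) ≫
          eqToHom (Φ.w_obj (U0 R))).left = t0 := by
      change m.base.left ≫ ee = t0
      rw [hm, Category.assoc, hei, Category.comp_id]
    have key : ∀ (t1 : y.base.left ⟶ (Line R).left), t1 = t0 → (t1 ⁻¹ᵁ U = ⊤ ↔ t0 ⁻¹ᵁ U = ⊤) := by
      rintro t1 rfl; rfl
    exact key _ h1
  have hcoh : ∀ {y : ModSt.Obj f} (_ : y ⟶ UU.x), ModSt.IsCohObj y := fun m =>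
    K927.ModSt.isCohObj_of_hom m (Φ.obj (v0 R h Kf.{u})).property
  have hid : IsPullback (𝟙 (pullback f h : Scheme.{u})) (pullback.snd f h) (pullback.snd f h)
      (𝟙 (Spec (CommRingCat.of R))) := IsPullback.of_horiz_isIso ⟨by simp⟩
  -- the module itself
  have htopN : F (a - 1 + (((N - (a - 1)).toNat : ℕ) : ℤ)) = ⊤ := htop _ (by omega)
  obtain ⟨m1, hm1⟩ := exists_to_univ UU hid (Category.id_comp h) (Category.id_comp _) hpb
    ((one (R := R)).left ≫ ei) ((htt _).trans (Over.w (one (R := R)))) hax (isRees_one F (a - 1) htopN)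
    ((Scheme.Modules.pushforwardId _).inv.app (g.K N)) (ModSt.isCart_id _)
    (by
      rw [hts, map_one]
      exact ((congrArg _ K881.FwdMain.one_X).trans (map_one (pullback.snd f h).appTop.hom)).symm)
  have hE := hcoh m1
  have hQE : Q ⟨_, hE⟩ := by
    rw [hQm m1 (one (R := R)).left hm1 hE, eq_top_iff]
    intro z _
    apply hle
    refine Or.inl ?_
    have h1 : (one (R := R)).left ⁻¹ᵁ ((Line R).left.basicOpen (lineFn Polynomial.X)) = ⊤ := by
      rw [preimage_basicOpen_top, K881.FwdMain.one_X]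
      exact Scheme.basicOpen_of_isUnit _ isUnit_one
    have h2 : z ∈ (one (R := R)).left ⁻¹ᵁ ((Line R).left.basicOpen (lineFn Polynomial.X)) := by rw [h1]; trivial
    exact h2
  -- the graded pieces
  obtain ⟨m0, hm0⟩ := exists_to_univ UU hid (Category.id_comp h) (Category.id_comp _) hpb
    (pt0 R ≫ ei) ((htt _).trans (pt0_hom (R := R))) hax (isRees_zero F (a - 1) hbot)
    ((Scheme.Modules.pushforwardId _).inv.app _) (ModSt.isCart_id _)
    (by rw [hts, pt0_X, map_zero, map_zero])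
  have hG := hcoh m0
  have hfl : ∀ i, FlatMod.IsFlatOver (pullback.snd f h) (K881.Filt.gr F i) := fun i =>
    isFlatOver_of_retract _ (Sigma.ι (fun i : ℤ => K881.Filt.gr F i) i) (Sigma.π (fun i : ℤ => K881.Filt.gr F i) i)
      (Sigma.ι_π_eq_id _ _) hG.1
  have hpt : ∀ {L : Type u} [Field L] (ψ : R →+* L) {CL : Scheme.{u}} (iL : CL ⟶ pullback f h)
      (qL : CL ⟶ Spec (CommRingCat.of L))
      (hL : IsPullback iL qL (pullback.snd f h) (Spec.map (CommRingCat.ofHom ψ))),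
      ∃ m : (⟨Over.mk (Spec.map (CommRingCat.ofHom ψ) ≫ h), CL, iL ≫ pullback.fst f h, qL,
        (hL.flip.paste_vert hpb.flip).flip,
        (Scheme.Modules.pullback iL).obj (∐ fun i : ℤ => K881.Filt.gr F i)⟩ : ModSt.Obj f) ⟶ UU.x,
        m.base.left = (Spec.map (CommRingCat.ofHom ψ) ≫ pt0 R) ≫ ei := by
    intro L _ ψ CL iL qL hL
    exact exists_to_univ UU hL rfl rfl (hL.flip.paste_vert hpb.flip).flip
      ((Spec.map (CommRingCat.ofHom ψ) ≫ pt0 R) ≫ ei)
      ((htt _).trans (by rw [Category.assoc, pt0_hom, Category.comp_id])) hax (isRees_zero F (a - 1) hbot)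
      ((Scheme.Modules.pullbackPushforwardAdjunction iL).unit.app _) (K927.ModSt.isCart_unit _ _)
      (by rw [hts, Scheme.Hom.comp_appTop, CommRingCat.comp_apply, pt0_X, map_zero, map_zero, map_zero])
  have hKU : (Spec.map (CommRingCat.ofHom (algebraMap R K)) ≫ pt0 R) ⁻¹ᵁ U = ⊤ := by
    rw [eq_top_iff]
    intro z _
    apply hle
    refine Or.inr ?_
    obtain ⟨w, hw⟩ := exists_point (algebraMap R K)
    have hzw : z = w := Subsingleton.elim (α := PrimeSpectrum K) z w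
    subst hzw
    change (Spec.map (CommRingCat.ofHom (algebraMap R K)) ≫ pt0 R) z ∈ (Line R).left.basicOpen (lineFn (Polynomial.C ϖ))
    rw [mem_basicOpen_iff, hw, RingHom.mem_ker, RingHom.comp_apply, Polynomial.coe_evalRingHom, Polynomial.eval_C,
      map_eq_zero_iff _ (IsFractionRing.injective R K)]
    exact hϖ.ne_zero
  have hK : IsPullback (pullback.fst (pullback.snd f h) (Spec.map (CommRingCat.ofHom (algebraMap R K))))
    (pullback.snd (pullback.snd f h) (Spec.map (CommRingCat.ofHom (algebraMap R K)))) (pullback.snd f h)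
    (Spec.map (CommRingCat.ofHom (algebraMap R K))) := IsPullback.of_hasPullback _ _
  have hκ : IsPullback (pullback.fst (pullback.snd f h) (Spec.map (CommRingCat.ofHom (IsLocalRing.residue R))))
    (pullback.snd (pullback.snd f h) (Spec.map (CommRingCat.ofHom (IsLocalRing.residue R)))) (pullback.snd f h)
    (Spec.map (CommRingCat.ofHom (IsLocalRing.residue R))) := IsPullback.of_hasPullback _ _
  obtain ⟨mκ, hmκ⟩ := hpt (IsLocalRing.residue R) _ _ hκ
  have hκ' := hcoh mκ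
  have key := crit _ _ _ hpb _ hE F (g.qc_F N hiso hmono) (a - 1) N hbot htop hfl _ _ _ hK _ _ _ hκ hQE
    (fun hK' => by
      obtain ⟨mK, hmK⟩ := hpt (algebraMap R K) _ _ hK
      exact (hQm mK _ hmK hK').2 hKU) hκ'
  exact (hQm mκ _ hmκ hκ').1 key

end Main

end K787.ThConv
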