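import Groth.Agent.ThetaS.K787.GrSys

/-!
# The filtration attached to a grading, and its universal family
-/

set_option autoImplicit false
set_option backward.isDefEq.respectTransparency false
set_option backward.isDefEq.respectTransparency.types false
set_option linter.style.haveILetI false

universe u

open CategoryTheory CategoryTheory.Limits AlgebraicGeometry Opposite TopologicalSpace
open scoped DirectSum

namespace K787.GrSys

open Groth.Agent.Ega1.QCohLoc K881.Rees K881.Filt K787.ReesDir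
open Groth.Agent.LoccohB.HHmap (smulHom)

namespace Gr

variable {Y Z : Scheme.{u}} {π : Y ⟶ Z} {s : Γ(Y, ⊤)} {M : Y.Modules} (g : Gr π s M)

/-- Multiplication by a power of the function. -/
noncomputable def mp (_ : Gr π s M) (k : ℕ) : (Scheme.Modules.pushforward π).obj M ⟶ (Scheme.Modules.pushforward π).obj M :=
  (Scheme.Modules.pushforward π).map (smulHom M (s ^ k))

theorem mp_zero : g.mp 0 = 𝟙 _ := by
  rw [mp, pow_zero, smulHom_one, CategoryTheory.Functor.map_id]

theorem mp_add (k l : ℕ) : g.mp (k + l) = g.mp k ≫ g.mp l := by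
  rw [mp, mp, mp, ← Functor.map_comp, ← smulHom_mul, ← pow_add, Nat.add_comm]

theorem mp_one : g.mp 1 = (Scheme.Modules.pushforward π).map (smulHom M s) := by
  rw [mp, pow_one]

theorem exists_j (i : ℤ) (k : ℕ) : ∀ m : ℤ, m = i + (k : ℤ) → ∃ j : g.K i ⟶ g.K m, j ≫ g.κ m = g.κ i ≫ g.mp k := by
  induction k with
  | zero =>
    intro m hm
    obtain rfl : m = i := by rw [hm]; push_cast; ring
    exact ⟨𝟙 _, by rw [mp_zero, Category.id_comp, Category.comp_id]⟩
  | succ k ih =>
    intro m hm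
    obtain ⟨j, hj⟩ := ih (i + k) rfl
    obtain rfl : m = i + k + 1 := by rw [hm]; push_cast; ring
    refine ⟨j ≫ g.ι (i + k), ?_⟩
    rw [Category.assoc, g.comm, ← Category.assoc, hj, mp_add, mp_one, Category.assoc]

/-- The transition maps. -/
noncomputable def jj (i m : ℤ) (h : i ≤ m) : g.K i ⟶ g.K m :=
  (g.exists_j i (m - i).toNat m (by omega)).choose

theorem jj_κ' (i m : ℤ) (h : i ≤ m) : g.jj i m h ≫ g.κ m = g.κ i ≫ g.mp (m - i).toNat :=
  (g.exists_j i (m - i).toNat m (by omega)).choose_spec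

theorem jj_κ (i m : ℤ) (h : i ≤ m) (k : ℕ) (hk : m = i + k) : g.jj i m h ≫ g.κ m = g.κ i ≫ g.mp k := by
  obtain rfl : k = (m - i).toNat := by omega
  exact g.jj_κ' i m h

theorem jj_comp (i m l : ℤ) (h : i ≤ m) (h' : m ≤ l) : g.jj i m h ≫ g.jj m l h' = g.jj i l (h.trans h') := by
  haveI := g.mono l
  rw [← cancel_mono (g.κ l), Category.assoc, jj_κ', ← Category.assoc, jj_κ', Category.assoc, ← mp_add,
    g.jj_κ i l (h.trans h') ((m - i).toNat + (l - m).toNat) (by push_cast; omega)]

theorem jj_refl (i : ℤ) : g.jj i i le_rfl = 𝟙 _ := by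
  haveI := g.mono i
  rw [← cancel_mono (g.κ i), g.jj_κ i i le_rfl 0 (by simp), mp_zero, Category.id_comp, Category.comp_id]

theorem jj_succ (i : ℤ) : g.jj i (i + 1) (by omega) = g.ι i := by
  haveI := g.mono (i + 1)
  rw [← cancel_mono (g.κ (i + 1)), g.jj_κ i (i + 1) (by omega) 1 (by simp), mp_one, g.comm]

variable (N : ℤ) (hiso : ∀ n, N ≤ n → IsIso (g.ι n))

include hiso in
theorem isIso_jj (k : ℕ) : ∀ m (hm : m = N + k), IsIso (g.jj N m (by omega)) := by
  induction k with
  | zero =>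
    intro m hm
    obtain rfl : m = N := by rw [hm]; push_cast; ring
    rw [jj_refl]; infer_instance
  | succ k ih =>
    intro m hm
    obtain rfl : m = N + k + 1 := by rw [hm]; push_cast; ring
    haveI := ih (N + k) rfl
    haveI := hiso (N + k) (by omega)
    rw [← g.jj_comp N (N + k) (N + k + 1) (by omega) (by omega), jj_succ]
    infer_instance

include hiso in
theorem isIso_jj' (m : ℤ) (h : N ≤ m) : IsIso (g.jj N m h) := g.isIso_jj N hiso (m - N).toNat m (by omega)

/-- The maps to the module of the filtration. -/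
noncomputable def ep (i : ℤ) : g.K i ⟶ g.K N :=
  if h : i ≤ N then g.jj i N h else
    haveI := g.isIso_jj' N hiso i (not_le.1 h).le
    inv (g.jj N i (not_le.1 h).le)

theorem ep_of_le {i : ℤ} (h : i ≤ N) : g.ep N hiso i = g.jj i N h := dif_pos h

theorem jj_ep_of_ge {i : ℤ} (h : N ≤ i) : g.jj N i h ≫ g.ep N hiso i = 𝟙 _ := by
  by_cases h' : i ≤ N
  · obtain rfl : i = N := le_antisymm h' h
    rw [ep_of_le _ _ _ le_rfl, jj_refl]; exact Category.comp_id _
  · haveI := g.isIso_jj' N hiso i (not_le.1 h').le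
    rw [ep, dif_neg h']
    exact IsIso.hom_inv_id _

theorem jj_ep (i m : ℤ) (h : i ≤ m) : g.jj i m h ≫ g.ep N hiso m = g.ep N hiso i := by
  rcases le_total m N with h1 | h1
  · rw [ep_of_le _ _ _ h1, ep_of_le _ _ _ (h.trans h1), jj_comp]
  · rcases le_total i N with h2 | h2
    · rw [ep_of_le _ _ _ h2, ← g.jj_comp i N m h2 h1, Category.assoc, jj_ep_of_ge, Category.comp_id]
    · haveI := g.isIso_jj' N hiso i h2
      rw [← cancel_epi (g.jj N i h2), ← Category.assoc, jj_comp, jj_ep_of_ge, jj_ep_of_ge]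

theorem isIso_ep {i : ℤ} (h : N ≤ i) : IsIso (g.ep N hiso i) := by
  haveI := g.isIso_jj' N hiso i h
  exact IsIso.of_isIso_fac_left (g.jj_ep_of_ge N hiso h)

variable (hmono : ∀ n, Mono (g.ι n))

include hmono in
theorem mono_jj (i : ℤ) (k : ℕ) : ∀ m (hm : m = i + k), Mono (g.jj i m (by omega)) := by
  induction k with
  | zero =>
    intro m hm
    obtain rfl : m = i := by rw [hm]; push_cast; ring
    rw [jj_refl]; infer_instance
  | succ k ih =>
    intro m hm
    obtain rfl : m = i + k + 1 := by rw [hm]; push_cast; ring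
    haveI := ih (i + k) rfl
    haveI := hmono (i + k)
    rw [← g.jj_comp i (i + k) (i + k + 1) (by omega) (by omega), jj_succ]
    infer_instance

include hmono in
theorem mono_ep (i : ℤ) : Mono (g.ep N hiso i) := by
  rcases le_total i N with h | h
  · rw [ep_of_le _ _ _ h]
    exact g.mono_jj hmono i (N - i).toNat N (by omega)
  · haveI := g.isIso_ep N hiso h
    infer_instance

/-- The filtration. -/
noncomputable def F : ℤ →o Subobject (g.K N) where
  toFun i := haveI := g.mono_ep N hiso hmono i; Subobject.mk (g.ep N hiso i)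
  monotone' i m h := by
    haveI := g.mono_ep N hiso hmono i
    haveI := g.mono_ep N hiso hmono m
    exact Subobject.mk_le_mk_of_comm (g.jj i m h) (g.jj_ep N hiso i m h)

/-- The steps of the filtration are the graded pieces. -/
noncomputable def ei (i : ℤ) : Subobject.underlying.obj (g.F N hiso hmono i) ≅ g.K i :=
  haveI := g.mono_ep N hiso hmono i
  Subobject.underlyingIso (g.ep N hiso i)

theorem ei_ep (i : ℤ) : (g.ei N hiso hmono i).hom ≫ g.ep N hiso i = (g.F N hiso hmono i).arrow :=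
  haveI := g.mono_ep N hiso hmono i
  Subobject.underlyingIso_hom_comp_eq_mk _

theorem ofLE_ei (i m : ℤ) (h : i ≤ m) : Subobject.ofLE (g.F N hiso hmono i) (g.F N hiso hmono m)
    ((g.F N hiso hmono).monotone h) ≫ (g.ei N hiso hmono m).hom = (g.ei N hiso hmono i).hom ≫ g.jj i m h := by
  haveI := g.mono_ep N hiso hmono m
  rw [← cancel_mono (g.ep N hiso m), Category.assoc, Category.assoc, ei_ep, jj_ep, ei_ep, Subobject.ofLE_arrow]

theorem F_top {i : ℤ} (h : N ≤ i) : g.F N hiso hmono i = ⊤ := by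
  haveI := g.isIso_ep N hiso h
  exact Subobject.mk_eq_top_of_isIso _

theorem F_bot {i : ℤ} (h : IsZero (g.K i)) : g.F N hiso hmono i = ⊥ := by
  haveI := g.mono_ep N hiso hmono i
  exact (Subobject.mk_eq_bot_iff_zero (f := g.ep N hiso i)).2 (h.eq_of_src _ _)

theorem qc_F (i : ℤ) : Coh.IsQCoh (Subobject.underlying.obj (g.F N hiso hmono i)) :=
  isQCoh_of_iso (g.ei N hiso hmono i).symm (g.qc i)

variable (a : ℤ)

/-- The universal family of the filtration. -/
noncomputable def ff : Fam (seq (g.F N hiso hmono) a) π s M where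
  ρ k := (g.ei N hiso hmono (a + (k : ℤ))).hom ≫ g.κ (a + (k : ℤ))
  comm k := by
    have h1 := g.ofLE_ei N hiso hmono (a + (k : ℤ)) (a + ((k + 1 : ℕ) : ℤ)) (by push_cast; omega)
    have h2 : (seq (g.F N hiso hmono) a).ι k ≫ (g.ei N hiso hmono (a + ((k + 1 : ℕ) : ℤ))).hom =
      (g.ei N hiso hmono (a + (k : ℤ))).hom ≫ g.jj (a + (k : ℤ)) (a + ((k + 1 : ℕ) : ℤ)) (by push_cast; omega) := h1
    rw [← Category.assoc, h2, Category.assoc, g.jj_κ _ _ _ 1 (by push_cast; ring), mp_one, Category.assoc]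

theorem rh_ff (V : Z.Opens) (k : ℕ) (c : Γ((seq (g.F N hiso hmono) a).N k, V)) :
    rh (g.ff N hiso hmono a) V k c = g.kk V (a + (k : ℤ)) ((g.ei N hiso hmono (a + (k : ℤ))).hom.app V c) := rfl

theorem rh_ff_injective (V : Z.Opens) (k : ℕ) : Function.Injective (rh (g.ff N hiso hmono a) V k) :=
  (g.kk_injective V (a + (k : ℤ))).comp
    (Groth.Agent.Smoothlim.ModKer.app_injective_of_mono (g.ei N hiso hmono (a + (k : ℤ))).hom V)

theorem exists_rh (V : Z.Opens) (k : ℕ) (x : Γ(g.K (a + (k : ℤ)), V)) :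
    ∃ c, rh (g.ff N hiso hmono a) V k c = g.kk V (a + (k : ℤ)) x := by
  refine ⟨(g.ei N hiso hmono (a + (k : ℤ))).inv.app V x, ?_⟩
  rw [rh_ff]
  congr 1
  exact congr(($((g.ei N hiso hmono (a + (k : ℤ))).inv_hom_id)).app V x)

theorem cp_rh (V : Z.affineOpens) (k : ℕ) (c : Γ((seq (g.F N hiso hmono) a).N k, V.1)) (k' : ℕ) :
    g.cp V (a + (k' : ℤ)) (rh (g.ff N hiso hmono a) V.1 k c) =
      if k = k' then rh (g.ff N hiso hmono a) V.1 k c else 0 := by
  rw [rh_ff, cp_kk]
  by_cases h : k = k'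
  · subst h; rw [if_pos rfl, if_pos rfl]
  · rw [if_neg h, if_neg (by omega)]

theorem cp_sm (V : Z.affineOpens) (c : ⨁ k, Γ((seq (g.F N hiso hmono) a).N k, V.1)) (k : ℕ) :
    g.cp V (a + (k : ℤ)) (sm (g.ff N hiso hmono a) V.1 c) = rh (g.ff N hiso hmono a) V.1 k (c k) := by
  induction c using DirectSum.induction_on with
  | zero =>
    rw [map_zero, map_zero]
    exact (map_zero _).symm
  | of k' c =>
    rw [sm_of, cp_rh]
    by_cases h : k' = k
    · subst h
      rw [if_pos rfl, DirectSum.of_eq_same]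
    · rw [if_neg h, DirectSum.of_eq_of_ne _ _ _ (Ne.symm h), map_zero]
  | add x y hx hy =>
    rw [_root_.map_add, _root_.map_add, hx, hy, ← _root_.map_add]
    rfl

theorem isRees_ff [IsAffineHom π] (hM : Coh.IsQCoh M) (hz : ∀ n, n < a → IsZero (g.K n)) :
    (g.ff N hiso hmono a).IsRees := by
  refine isRees_of_direct hM _ g.gen fun V => ⟨?_, ?_⟩
  · rw [injective_iff_map_eq_zero]
    intro c hc
    refine DFinsupp.ext fun k => ?_
    apply g.rh_ff_injective N hiso hmono a V.1 k
    rw [← cp_sm, hc, map_zero]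
    exact (map_zero _).symm
  · intro m
    refine g.ind V (P := fun m => ∃ c, sm (g.ff N hiso hmono a) V.1 c = m) ⟨0, map_zero _⟩ ?_ ?_ m
    · rintro x y ⟨c, rfl⟩ ⟨c', rfl⟩
      exact ⟨c + c', _root_.map_add _ _ _⟩
    · intro n c
      rcases lt_or_ge n a with h | h
      · have h1 : c = 0 := by
          have h2 := congr(($((hz n h).eq_of_src (𝟙 (g.K n)) 0)).app V.1 c)
          exact h2
        exact ⟨0, by rw [h1, map_zero, map_zero]⟩
      · obtain ⟨k, rfl⟩ : ∃ k : ℕ, n = a + (k : ℤ) := ⟨(n - a).toNat, by omega⟩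
        obtain ⟨x, hx⟩ := g.exists_rh N hiso hmono a V.1 k c
        exact ⟨DirectSum.of _ k x, by rw [sm_of, hx]⟩

end Gr

end K787.GrSys
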