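import Groth.Agent.ModSt.K927.RSSec
import Groth.Agent.ThetaS.K942.Coord
import Mathlib.LinearAlgebra.TensorProduct.Basis

/-!
# Expansions along base change by the multiplicative group
-/

set_option autoImplicit false
set_option backward.isDefEq.respectTransparency false
set_option backward.isDefEq.respectTransparency.types false
set_option linter.style.haveILetI false

universe u

open CategoryTheory CategoryTheory.Limits AlgebraicGeometry Opposite
open scoped TensorProduct Polynomial

namespace K787.LaurBC

section Alg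

variable {A B : Type u} [CommRing A] [CommRing B] (ρ : A →+* B) (l : ℤ → B)

/-- `B` is free over `A` with basis `l`. -/
def IsBas : Prop := Function.Bijective (fun a : ℤ →₀ A => a.sum fun n x => ρ x * l n)

variable {ρ l} {M Q : Type u} [AddCommGroup M] [Module A M] [AddCommGroup Q] [Module B Q] {g : M →+ Q}

/-- Expansions in a base change along a free extension. -/
theorem expand (hl : IsBas ρ l) (h : K28.SBC ρ g) :
    Function.Bijective (fun m : ℤ →₀ M => m.sum fun n x => l n • g x) := by
  letI : Algebra A B := ρ.toAlgebra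
  letI : Module A Q := Module.compHom Q ρ
  haveI : IsScalarTower A B Q := K28.SBC.tower ρ
  let F : (ℤ →₀ A) →ₗ[A] B :=
    { toFun := fun a => a.sum fun n x => ρ x * l n
      map_add' := fun a b => Finsupp.sum_add_index' (fun n => by rw [map_zero, zero_mul])
        fun n x y => by rw [map_add, add_mul]
      map_smul' := fun c a => by
        rw [Finsupp.sum_smul_index (fun n => by rw [map_zero, zero_mul]), Finsupp.smul_sum]
        refine Finsupp.sum_congr fun n _ => ?_
        rw [map_mul, mul_assoc]; rfl }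
  let e : (ℤ →₀ A) ≃ₗ[A] B := LinearEquiv.ofBijective F hl
  let b : Module.Basis ℤ A B := Module.Basis.ofRepr e.symm
  have hb : ∀ n, b n = l n := by
    intro n
    rw [Module.Basis.coe_ofRepr]
    change F (Finsupp.single n 1) = l n
    change (Finsupp.single n (1 : A)).sum (fun n x => ρ x * l n) = l n
    rw [Finsupp.sum_single_index (by rw [map_zero, zero_mul]), map_one, one_mul]
  have h1 := h.isBaseChange'
  let e2 := (TensorProduct.equivFinsuppOfBasisLeft (N := M) b).symm.toEquiv.trans h1.equiv.toEquiv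
  have h2 : (fun m : ℤ →₀ M => m.sum fun n x => l n • g x) = e2 := by
    funext m
    change _ = h1.equiv ((TensorProduct.equivFinsuppOfBasisLeft (N := M) b).symm m)
    rw [TensorProduct.equivFinsuppOfBasisLeft_symm_apply, Finsupp.sum, Finsupp.sum, map_sum]
    refine Finset.sum_congr rfl fun n _ => ?_
    rw [IsBaseChange.equiv_tmul, hb]
    rfl
  rw [h2]
  exact e2.bijective

theorem IsBas.congr (h : IsBas ρ l) {ρ' : A →+* B} {l' : ℤ → B} (h1 : ∀ a, ρ' a = ρ a) (h2 : ∀ n, l' n = l n) :
    IsBas ρ' l' := by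
  obtain rfl : ρ = ρ' := RingHom.ext fun a => (h1 a).symm
  obtain rfl : l = l' := funext fun n => (h2 n).symm
  exact h

end Alg

section Push

variable {R L A B : Type u} [CommRing R] [CommRing L] [CommRing A] [CommRing B]

/-- Free extensions are stable under push-out. -/
theorem isBas_of_isPushout {r : R →+* L} {a : R →+* A} {f : A →+* B} {g' : L →+* B}
    (H : IsPushout (CommRingCat.ofHom r) (CommRingCat.ofHom a) (CommRingCat.ofHom g') (CommRingCat.ofHom f))
    {l : ℤ → L} (hl : IsBas r l) : IsBas f (fun n => g' (l n)) := by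
  letI := r.toAlgebra
  letI := a.toAlgebra
  letI := f.toAlgebra
  letI := g'.toAlgebra
  letI := (f.comp a).toAlgebra
  haveI : IsScalarTower R A B := IsScalarTower.of_algebraMap_eq fun _ => rfl
  haveI : IsScalarTower R L B := IsScalarTower.of_algebraMap_eq fun x => congr($(H.w) x).symm
  have H2 : Algebra.IsPushout R L A B := CommRingCat.isPushout_iff_isPushout.1 H
  have h1 := K28.SBC.of_isBaseChange H2.out
  have h2 := expand hl h1
  have h3 : (fun a : ℤ →₀ A => a.sum fun n x => f x * g' (l n)) =
      fun m : ℤ →₀ A => m.sum fun n x => l n • (IsScalarTower.toAlgHom R A B).toLinearMap.toAddMonoidHom x := by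
    funext m
    refine Finsupp.sum_congr fun n _ => ?_
    rw [Algebra.smul_def, mul_comm]
    rfl
  rw [IsBas, h3]
  exact h2

theorem isBas_of_equiv {r : R →+* L} {l : ℤ → L} (hl : IsBas r l) (e1 : A ≃+* R) (e2 : L ≃+* B) {f : A →+* B}
    (hf : ∀ x, f x = e2 (r (e1 x))) : IsBas f (fun n => e2 (l n)) := by
  have h1 : (fun a : ℤ →₀ A => a.sum fun n x => f x * e2 (l n)) =
      (fun x => e2 x) ∘ (fun a : ℤ →₀ R => a.sum fun n x => r x * l n) ∘
        (fun a : ℤ →₀ A => Finsupp.mapRange.equiv e1.toEquiv (map_zero e1) a) := by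
    funext m
    change _ = e2 ((Finsupp.mapRange e1 (map_zero e1) m).sum fun n x => r x * l n)
    rw [Finsupp.sum_mapRange_index (fun n => by rw [map_zero, zero_mul]), Finsupp.sum, Finsupp.sum, map_sum]
    refine Finset.sum_congr rfl fun n _ => ?_
    rw [hf, map_mul]
  rw [IsBas, h1]
  exact e2.bijective.comp (hl.comp (Equiv.bijective _))

end Push

section Lau

open ThetaS

/-- The group algebra of the integers. -/
theorem isBas_lau (R : Type u) [CommRing R] : IsBas (algebraMap R (Lau R)) (zPow R) := by
  have h1 : ∀ (a : ℤ →₀ R) (m : ℤ), (a.sum fun n x => algebraMap R (Lau R) x * zPow R n).coeff (Multiplicative.ofAdd m) =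
      a m := by
    intro a m
    have h2 : ∀ (n : ℤ) (x : R), algebraMap R (Lau R) x * zPow R n = MonoidAlgebra.single (Multiplicative.ofAdd n) x := by
      intro n x
      rw [← Algebra.smul_def, zPow, MonoidAlgebra.smul_single, smul_eq_mul, mul_one]
    induction a using Finsupp.induction_linear with
    | zero => simp
    | add a b ha hb =>
      rw [Finsupp.sum_add_index' (fun n => by rw [map_zero, zero_mul]) (fun n x y => by rw [map_add, add_mul]),
        MonoidAlgebra.coeff_add, Finsupp.add_apply, ha, hb, Finsupp.add_apply]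
    | single n x =>
      rw [Finsupp.sum_single_index (by rw [map_zero, zero_mul]), h2, MonoidAlgebra.coeff_single]
      rw [Finsupp.single_apply, Finsupp.single_apply]
      rfl
  constructor
  · intro a b h
    ext m
    rw [← h1 a m, ← h1 b m]
    exact congrArg (fun z : Lau R => z.coeff (Multiplicative.ofAdd m)) h
  · intro z
    refine ⟨Finsupp.equivMapDomain Multiplicative.toAdd z.coeff, ?_⟩
    dsimp only
    apply MonoidAlgebra.ext
    apply Finsupp.ext
    intro m
    exact h1 _ m.toAdd

end Lau

section Geom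

open ThetaS

variable {R : Type u} [CommRing R] {Y Y' : Scheme.{u}} {f : Y' ⟶ Y} {g' : Y' ⟶ (Gm R).left}
  {g : Y ⟶ Spec (CommRingCat.of R)}

/-- The coordinate functions on a base change by `G_m`. -/
noncomputable def zf (g' : Y' ⟶ (Gm R).left) (n : ℤ) : Γ(Y', ⊤) :=
  g'.appTop ((Scheme.ΓSpecIso (CommRingCat.of (Lau R))).inv (zPow R n))

theorem isBas_geom (H : IsPullback f g' g (Gm R).hom) {V : Y.Opens} (hV : IsAffineOpen V) :
    IsBas (f.app V).hom (fun n => Y'.presheaf.map (homOfLE (le_top : f ⁻¹ᵁ V ≤ ⊤)).op (zf g' n)) := by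
  haveI : IsAffine (Gm R).left := inferInstanceAs (IsAffine (Spec (CommRingCat.of (Lau R))))
  have h1 := isIso_pushoutSection_of_isAffineOpen H (US := ⊤) (UT := ⊤) (UX := V) (UY := f ⁻¹ᵁ V)
    le_top le_top (by exact (inf_top_eq _).symm) (isAffineOpen_top _) (isAffineOpen_top _) hV
  rw [isIso_pushoutSection_iff] at h1
  have h2 : IsBas ((Gm R).hom.appLE ⊤ ⊤ le_top).hom
      (fun n => (Scheme.ΓSpecIso (CommRingCat.of (Lau R))).inv (zPow R n)) := by
    refine isBas_of_equiv (isBas_lau R) (Scheme.ΓSpecIso (CommRingCat.of R)).commRingCatIsoToRingEquiv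
      (Scheme.ΓSpecIso (CommRingCat.of (Lau R))).symm.commRingCatIsoToRingEquiv fun x => ?_
    have h5 := Scheme.ΓSpecIso_inv_naturality (CommRingCat.ofHom (algebraMap R (Lau R)))
    have h6 := congr($h5 ((Scheme.ΓSpecIso (CommRingCat.of R)).hom x))
    rw [CommRingCat.comp_apply, CommRingCat.comp_apply] at h6
    have h7 : (Scheme.ΓSpecIso (CommRingCat.of R)).inv ((Scheme.ΓSpecIso (CommRingCat.of R)).hom x) = x :=
      Iso.hom_inv_id_apply _ _
    rw [h7] at h6
    refine Eq.trans ?_ h6.symm
    have h8 : (Gm R).hom.appLE ⊤ ⊤ le_top = (Gm R).hom.app ⊤ := (Scheme.Hom.app_eq_appLE _).symm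
    rw [h8]; rfl
  refine (isBas_of_isPushout h1.flip h2).congr (fun a => ?_) fun n => ?_
  · exact congr($(Scheme.Hom.app_eq_appLE f) a)
  · rfl

/-- Expansions of the sections of a module pulled back along a base change by `G_m`. -/
theorem expand_geom (H : IsPullback f g' g (Gm R).hom) {V : Y.Opens} (hV : IsAffineOpen V) {N : Y.Modules}
    (hN : Coh.IsQCoh N) {M : Y'.Modules} (c : N ⟶ (Scheme.Modules.pushforward f).obj M) (hc : ModSt.IsCart f c)
    {W : Y'.Opens} (hW : W = f ⁻¹ᵁ V) (e : W ≤ f ⁻¹ᵁ V) :
    Function.Bijective (fun m : ℤ →₀ Γ(N, V) => m.sum fun n x =>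
      (show Γ(M, W) from (Y'.presheaf.map (homOfLE (le_top : W ≤ ⊤)).op (zf g' n) : Γ(Y', W)) •
        (K927.ModSt.cs f c e x : Γ(M, W)))) := by
  subst hW
  haveI : IsAffineHom (Gm R).hom := inferInstanceAs (IsAffineHom (Spec.map _))
  haveI : IsAffineHom f := MorphismProperty.of_isPullback H.flip inferInstance
  have h1 := K927.ModSt.sbc_of_cart f c hN hc e hV (hV.preimage f)
  have h2 := isBas_geom H hV
  have h3 : (f.appLE V (f ⁻¹ᵁ V) e).hom = (f.app V).hom := congrArg _ (Scheme.Hom.app_eq_appLE f).symm
  rw [← h3] at h2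
  exact expand h2 h1

end Geom

end K787.LaurBC
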