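import Groth.Agent.ThetaS.K881.Rees
import Groth.Agent.LoccohA.HomDense

/-!
# Universal families from direct sum decompositions

* `exists_hom_affine`: for an affine morphism `π : Y ⟶ Z` and a quasi-coherent module on `Y`, morphisms to an arbitrary
  module from linear maps on the sections over the inverse images of the affine opens of `Z`;
* `isRees_of_direct`: a family whose maps decompose the sections over these opens is universal.
-/

set_option autoImplicit false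
set_option backward.isDefEq.respectTransparency false
set_option backward.isDefEq.respectTransparency.types false

universe u

open CategoryTheory CategoryTheory.Limits AlgebraicGeometry Opposite TopologicalSpace
open scoped DirectSum

namespace K787.ReesDir

open Groth.Agent.Ega1.QCohLoc Groth.Agent.LoccohA.HomDense
open Groth.Agent.LoccohB.GlueHom (LHom exists_glue)

section Hom

variable {Y Z : Scheme.{u}} (π : Y ⟶ Z) [IsAffineHom π] {M N : Y.Modules} (hM : Coh.IsQCoh M)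

include hM in
theorem exists_hom_affine (l : ∀ V : Z.affineOpens, Γ(M, π ⁻¹ᵁ V.1) →ₗ[Γ(Y, π ⁻¹ᵁ V.1)] Γ(N, π ⁻¹ᵁ V.1))
    (hl : ∀ (V V' : Z.affineOpens) (h : V'.1 ≤ V.1) (m : Γ(M, π ⁻¹ᵁ V.1)),
      l V' (res M (π.preimage_mono h) m) = res N (π.preimage_mono h) (l V m)) :
    ∃ ψ : M ⟶ N, ∀ (V : Z.affineOpens) (m : Γ(M, π ⁻¹ᵁ V.1)), ψ.app (π ⁻¹ᵁ V.1) m = l V m := by
  choose φ hφ using fun V : Z.affineOpens => exists_lhom (N := N) hM (V.2.preimage π) (l V)
  have key : ∀ (V V' : Z.affineOpens) (g : Γ(Z, V.1)) (hg : V'.1 = Z.basicOpen g) (h : V'.1 ≤ V.1)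
      (s : Γ(M, π ⁻¹ᵁ V'.1)), (φ V).app (π ⁻¹ᵁ V'.1) (π.preimage_mono h) s = l V' s := by
    intro V V' g hg h s
    have h1 : π ⁻¹ᵁ V'.1 = Y.basicOpen (π.app V.1 g) := by
      rw [hg, Scheme.preimage_basicOpen]
    obtain ⟨n, t, ht⟩ := (isLocAt_of_isQCoh hM (V.2.preimage π) (π.app V.1 g)).surj' h1 (π.preimage_mono h) s
    have hu := isUnit_resO' (π.app V.1 g) h1 (π.preimage_mono h)
    refine (hu.pow n).smul_left_cancel.mp ?_
    have e1 := (φ V).nat (π ⁻¹ᵁ V.1) (π ⁻¹ᵁ V'.1) (π.preimage_mono h) le_rfl t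
    change (φ V).app (π ⁻¹ᵁ V'.1) _ (res M _ t) = res N _ ((φ V).app (π ⁻¹ᵁ V.1) _ t) at e1
    rw [hφ, ← hl V V' h t, ht, map_smul, map_smul] at e1
    exact e1
  have hcov : iSup (fun V : Z.affineOpens => π ⁻¹ᵁ V.1) = ⊤ := by
    rw [eq_top_iff]
    intro y _
    obtain ⟨V, hV, hy, -⟩ := exists_isAffineOpen_mem_and_subset (U := (⊤ : Z.Opens)) (x := π y) trivial
    exact Opens.mem_iSup.mpr ⟨⟨V, hV⟩, hy⟩
  obtain ⟨ψ, hψ⟩ := exists_glue M N (fun V : Z.affineOpens => π ⁻¹ᵁ V.1) hcov φ (by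
    intro V V' U hU hU' s
    have hloc : ∀ y : U, ∃ D : Y.Opens, ∃ hD : D ≤ U, (y : Y) ∈ D ∧ ∀ t : Γ(M, D),
        (φ V).app D (hD.trans hU) t = (φ V').app D (hD.trans hU') t := by
      intro y
      obtain ⟨f, g, hfg, hy⟩ := exists_basicOpen_le_affine_inter V.2 V'.2 (π y.1) ⟨hU y.2, hU' y.2⟩
      let V'' : Z.affineOpens := ⟨Z.basicOpen f, V.2.basicOpen f⟩
      have hV1 : V''.1 ≤ V.1 := Z.basicOpen_le f
      have hV2 : V''.1 ≤ V'.1 := by
        change Z.basicOpen f ≤ V'.1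
        rw [hfg]; exact Z.basicOpen_le g
      refine ⟨U ⊓ π ⁻¹ᵁ V''.1, inf_le_left, ⟨y.2, hy⟩, fun t => ?_⟩
      exact lhom_ext hM (V''.2.preimage π) (π.preimage_mono hV1) (π.preimage_mono hV2) (φ V) (φ V')
        (fun s => (key V V'' f rfl hV1 s).trans (key V' V'' g hfg hV2 s).symm) inf_le_right t
    choose D hD hyD hDe using hloc
    refine eq_of_locally_eq N D U hD (fun y hy => Opens.mem_iSup.mpr ⟨⟨y, hy⟩, hyD _⟩) _ _ fun y => ?_
    have e1 := (φ V).nat U (D y) (hD y) hU s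
    have e2 := (φ V').nat U (D y) (hD y) hU' s
    exact e1.symm.trans ((hDe y _).trans e2))
  refine ⟨ψ, fun V m => ?_⟩
  rw [hψ V (π ⁻¹ᵁ V.1) le_rfl m, hφ]

include hM in
theorem hom_ext_affine {φ ψ : M ⟶ N} (h : ∀ (V : Z.affineOpens) (m : Γ(M, π ⁻¹ᵁ V.1)),
    φ.app (π ⁻¹ᵁ V.1) m = ψ.app (π ⁻¹ᵁ V.1) m) : φ = ψ := by
  refine Groth.Agent.FormalB.ModPowAff2.hom_ext_of_affine_cover hM φ ψ fun y => ?_
  obtain ⟨V, hV, hy, -⟩ := exists_isAffineOpen_mem_and_subset (U := (⊤ : Z.Opens)) (x := π y) trivial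
  exact ⟨π ⁻¹ᵁ V, hy, hV.preimage π, h ⟨V, hV⟩⟩

/-- Morphisms agreeing on the sections over affine opens are equal. -/
theorem hom_ext_aff {A B : Z.Modules} {φ ψ : A ⟶ B} (h : ∀ (V : Z.affineOpens) (m : Γ(A, V.1)),
    φ.app V.1 m = ψ.app V.1 m) : φ = ψ := by
  refine K881.Rees.hom_ext fun U x => ?_
  have hloc : ∀ z : U, ∃ V : Z.affineOpens, (z : Z) ∈ V.1 ∧ V.1 ≤ U := by
    intro z
    obtain ⟨V, hV, hz, hVU⟩ := exists_isAffineOpen_mem_and_subset (U := U) (x := z.1) z.2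
    exact ⟨⟨V, hV⟩, hz, hVU⟩
  choose V hz hV using hloc
  refine eq_of_locally_eq B (fun z => (V z).1) U hV (fun z hz' => Opens.mem_iSup.mpr ⟨⟨z, hz'⟩, hz _⟩) _ _ fun z => ?_
  have e1 := res_app φ (hV z) x
  have e2 := res_app ψ (hV z) x
  rw [← e1, ← e2, h]

end Hom

section Rees

open K881.Rees

variable {Y Z : Scheme.{u}} {π : Y ⟶ Z} {M G : Y.Modules} {D : Sys Z} {s : Γ(Y, ⊤)}

/-- The maps of a family on sections. -/
noncomputable def rh (ρ : Fam D π s M) (V : Z.Opens) (k : ℕ) : Γ(D.N k, V) →+ Γ(M, π ⁻¹ᵁ V) := ((ρ.ρ k).app V).hom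

theorem rh_res (ρ : Fam D π s M) {V V' : Z.Opens} (h : V' ≤ V) (k : ℕ) (c : Γ(D.N k, V)) :
    rh ρ V' k (res (D.N k) h c) = res M (π.preimage_mono h) (rh ρ V k c) :=
  res_app (ρ.ρ k) h c

theorem rh_smul (ρ : Fam D π s M) (V : Z.Opens) (k : ℕ) (a : Γ(Z, V)) (c : Γ(D.N k, V)) :
    rh ρ V k (a • c) = π.app V a • rh ρ V k c := Scheme.Modules.Hom.app_smul (ρ.ρ k) a c

theorem rh_ι (ρ : Fam D π s M) (V : Z.Opens) (k : ℕ) (c : Γ(D.N k, V)) :
    rh ρ V (k + 1) ((D.ι k).app V c) = resO (le_top : π ⁻¹ᵁ V ≤ ⊤) s • rh ρ V k c :=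
  congr(($(ρ.comm k)).app V c)

/-- The sum of the maps of a family. -/
noncomputable def sm (ρ : Fam D π s M) (V : Z.Opens) : (⨁ k, Γ(D.N k, V)) →+ Γ(M, π ⁻¹ᵁ V) :=
  DirectSum.toAddMonoid fun k => rh ρ V k

theorem sm_of (ρ : Fam D π s M) (V : Z.Opens) (k : ℕ) (c : Γ(D.N k, V)) :
    sm ρ V (DirectSum.of (fun k => Γ(D.N k, V)) k c) = rh ρ V k c := DirectSum.toAddMonoid_of _ _ _

theorem ind {ρ : Fam D π s M} {V : Z.Opens} (h : Function.Surjective (sm ρ V)) {P : Γ(M, π ⁻¹ᵁ V) → Prop}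
    (h0 : P 0) (hadd : ∀ x y, P x → P y → P (x + y)) (hP : ∀ k c, P (rh ρ V k c)) (m : Γ(M, π ⁻¹ᵁ V)) : P m := by
  obtain ⟨c, rfl⟩ := h m
  induction c using DirectSum.induction_on with
  | zero => rw [map_zero]; exact h0
  | of k c => rw [sm_of]; exact hP k c
  | add x y hx hy => rw [map_add]; exact hadd _ _ hx hy

/-- A family which decomposes the sections is universal. -/
theorem isRees_of_direct [IsAffineHom π] (hM : Coh.IsQCoh M) (ρ : Fam D π s M)
    (hgen : ∀ (V : Z.affineOpens) (T : Subring Γ(Y, π ⁻¹ᵁ V.1)), (∀ a : Γ(Z, V.1), π.app V.1 a ∈ T) →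
      resO (le_top : π ⁻¹ᵁ V.1 ≤ ⊤) s ∈ T → ∀ b, b ∈ T)
    (hdir : ∀ V : Z.affineOpens, Function.Bijective (sm ρ V.1)) : ρ.IsRees := by
  intro G'
  constructor
  · intro v w e
    dsimp only at e
    refine hom_ext_affine π hM fun V m => ?_
    refine ind (hdir V).2 (P := fun m => v.app (π ⁻¹ᵁ V.1) m = w.app (π ⁻¹ᵁ V.1) m) ?_ ?_ ?_ m
    · exact (map_zero (v.app (π ⁻¹ᵁ V.1)).hom).trans (map_zero (w.app (π ⁻¹ᵁ V.1)).hom).symm
    · intro x y hx hy
      refine (map_add (v.app (π ⁻¹ᵁ V.1)).hom x y).trans (Eq.trans ?_ (map_add (w.app (π ⁻¹ᵁ V.1)).hom x y).symm)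
      exact congrArg₂ _ hx hy
    · intro k c
      have h1 : (ρ.map v).ρ k = (ρ.map w).ρ k := by rw [e]
      exact congr(($h1).app V.1 c)
  · intro σ
    let eq (V : Z.affineOpens) : (⨁ k, Γ(D.N k, V.1)) ≃+ Γ(M, π ⁻¹ᵁ V.1) := AddEquiv.ofBijective (sm ρ V.1) (hdir V)
    let l0 (V : Z.affineOpens) : Γ(M, π ⁻¹ᵁ V.1) →+ Γ(G', π ⁻¹ᵁ V.1) := (sm σ V.1).comp (eq V).symm.toAddMonoidHom
    have hl0 : ∀ (V : Z.affineOpens) k c, l0 V (rh ρ V.1 k c) = rh σ V.1 k c := by
      intro V k c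
      have h1 : (eq V).symm (rh ρ V.1 k c) = DirectSum.of (fun k => Γ(D.N k, V.1)) k c := by
        rw [AddEquiv.symm_apply_eq]
        exact (sm_of ρ V.1 k c).symm
      change sm σ V.1 ((eq V).symm (rh ρ V.1 k c)) = _
      rw [h1, sm_of]
    let l (V : Z.affineOpens) : Γ(M, π ⁻¹ᵁ V.1) →ₗ[Γ(Y, π ⁻¹ᵁ V.1)] Γ(G', π ⁻¹ᵁ V.1) :=
      { toFun := l0 V
        map_add' := map_add _
        map_smul' := by
          let T : Subring Γ(Y, π ⁻¹ᵁ V.1) :=
            { carrier := {b | ∀ m, l0 V (b • m) = b • l0 V m}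
              mul_mem' := fun {a b} ha hb m => by rw [mul_smul, ha, hb, mul_smul]
              one_mem' := fun m => by rw [one_smul, one_smul]
              add_mem' := fun {a b} ha hb m => by rw [add_smul, map_add, ha, hb, add_smul]
              zero_mem' := fun m => by rw [zero_smul, map_zero, zero_smul]
              neg_mem' := fun {a} ha m => by rw [neg_smul, map_neg, ha, neg_smul] }
          refine hgen V T ?_ ?_
          · intro a m
            refine ind (hdir V).2 (P := fun m => l0 V (π.app V.1 a • m) = π.app V.1 a • l0 V m) ?_ ?_ ?_ m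
            · rw [smul_zero, map_zero, smul_zero]
            · intro x y hx hy
              rw [smul_add, map_add, map_add, hx, hy, smul_add]
            · intro k c
              rw [← rh_smul, hl0, hl0, rh_smul]
          · intro m
            refine ind (hdir V).2 (P := fun m => l0 V (resO le_top s • m) = resO le_top s • l0 V m) ?_ ?_ ?_ m
            · rw [smul_zero, map_zero, smul_zero]
            · intro x y hx hy
              rw [smul_add, map_add, map_add, hx, hy, smul_add]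
            · intro k c
              have h1 := rh_ι ρ V.1 k c
              rw [← h1, hl0, hl0, rh_ι] }
    obtain ⟨ψ, hψ⟩ := exists_hom_affine π (N := G') hM l (by
      intro V V' h m
      refine ind (hdir V).2 (P := fun m => l V' (res M (π.preimage_mono h) m) = res G' (π.preimage_mono h) (l V m))
        ?_ ?_ ?_ m
      · rw [map_zero, map_zero, map_zero, map_zero]
      · intro x y hx hy
        rw [map_add, map_add, map_add, map_add, hx, hy]
      · intro k c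
        change l0 V' (res M (π.preimage_mono h) (rh ρ V.1 k c)) = res G' (π.preimage_mono h) (l0 V (rh ρ V.1 k c))
        rw [← rh_res ρ h, hl0, hl0, rh_res σ h])
    refine ⟨ψ, ?_⟩
    ext k : 2
    refine hom_ext_aff fun V c => ?_
    exact (hψ V (rh ρ V.1 k c)).trans (hl0 V k c)

end Rees

end K787.ReesDir
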