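import Groth.Agent.ThetaS.K787.ThGr
import Groth.Agent.ThetaS.K787.GrFilt
import Groth.Agent.PerfA.QCohSerre
import Groth.Agent.Ega1.QcqsPush
import Groth.Agent.Ega43.FibSch2

/-!
# The grading attached to a functor `Θ_R ⟶ Coh f`
-/

set_option autoImplicit false
set_option backward.isDefEq.respectTransparency false
set_option backward.isDefEq.respectTransparency.types false
set_option linter.style.haveILetI false

universe u

open CategoryTheory CategoryTheory.Limits MonoidalCategory CartesianMonoidalCategory MonObj GrpObj AlgebraicGeometry Opposite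
open scoped TensorProduct Polynomial

namespace K787.ThData

open ThetaS K951.Pts K943.QuotAtlas K943.QuotCover K881.ThetaTr K881.ThetaCrit Groth.Agent.Desc.QD K787.ThFam K787.ThGr
  K787.GrSys K881.Rees
open Groth.Agent.Ega1.QCohLoc (resO)
open Groth.Agent.LoccohB.HHmap (smulHom)

attribute [local instance] K951.Pts.algΓ

section Gen

/-- A push-out of rings is generated by the two factors. -/
theorem mem_of_isPushout {A B C D : CommRingCat.{u}} {f : A ⟶ B} {g : A ⟶ C} {i : B ⟶ D} {j : C ⟶ D}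
    (H : IsPushout f g i j) (T : Subring D) (hi : ∀ b, i b ∈ T) (hj : ∀ c, j c ∈ T) (d : D) : d ∈ T := by
  let i' : B ⟶ CommRingCat.of T := CommRingCat.ofHom (i.hom.codRestrict T hi)
  let j' : C ⟶ CommRingCat.of T := CommRingCat.ofHom (j.hom.codRestrict T hj)
  have w : f ≫ i' = g ≫ j' := by
    ext a
    exact congr($(H.w) a)
  let v : CommRingCat.of T ⟶ D := CommRingCat.ofHom T.subtype
  have h1 : H.desc i' j' w ≫ v = 𝟙 D := by
    apply H.hom_ext
    · rw [← Category.assoc, H.inl_desc]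
      ext b; rfl
    · rw [← Category.assoc, H.inr_desc]
      ext b; rfl
  have h2 : v (H.desc i' j' w d) = d := congr($h1 d)
  rw [← h2]
  exact (H.desc i' j' w d).2

variable {R : Type u} [CommRing R] {Y Z : Scheme.{u}} {π : Y ⟶ Z} {y : Y ⟶ (Line R).left}
  {q : Z ⟶ Spec (CommRingCat.of R)}

theorem gen_geom (H : IsPullback π y q (Line R).hom) {V : Z.Opens} (hV : IsAffineOpen V)
    (T : Subring Γ(Y, π ⁻¹ᵁ V)) (hA : ∀ a : Γ(Z, V), π.app V a ∈ T)
    (hX : resO (le_top : π ⁻¹ᵁ V ≤ ⊤) (y.appTop (lineFn Polynomial.X)) ∈ T) (b : Γ(Y, π ⁻¹ᵁ V)) : b ∈ T := by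
  haveI : IsAffine (Line R).left := inferInstanceAs (IsAffine (Spec (CommRingCat.of R[X])))
  have h1 := isIso_pushoutSection_of_isAffineOpen H (US := ⊤) (UT := ⊤) (UX := V) (UY := π ⁻¹ᵁ V)
    le_top le_top (by exact (inf_top_eq _).symm) (isAffineOpen_top _) (isAffineOpen_top _) hV
  rw [isIso_pushoutSection_iff] at h1
  refine mem_of_isPushout h1 T (fun a => ?_) (fun c => ?_) b
  · have h2 := hA a
    rw [Scheme.Hom.app_eq_appLE] at h2
    exact h2
  · -- polynomials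
    obtain ⟨P, rfl⟩ : ∃ P : R[X], (Scheme.ΓSpecIso (CommRingCat.of R[X])).inv P = c :=
      ⟨(Scheme.ΓSpecIso (CommRingCat.of R[X])).hom c, Iso.hom_inv_id_apply _ _⟩
    let ψ : R[X] →+* Γ(Y, π ⁻¹ᵁ V) := (y.appLE ⊤ (π ⁻¹ᵁ V) le_top).hom.comp (Scheme.ΓSpecIso (CommRingCat.of R[X])).inv.hom
    have hψC : ∀ r : R, ψ (Polynomial.C r) ∈ T := by
      intro r
      have h5 := Scheme.ΓSpecIso_inv_naturality (CommRingCat.ofHom (algebraMap R R[X]))
      have h6 : (Scheme.ΓSpecIso (CommRingCat.of R[X])).inv (Polynomial.C r) =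
          (Line R).hom.appTop ((Scheme.ΓSpecIso (CommRingCat.of R)).inv r) := congr($h5 r)
      have h7 : ψ (Polynomial.C r) = π.app V (q.appLE ⊤ V le_top ((Scheme.ΓSpecIso (CommRingCat.of R)).inv r)) := by
        change y.appLE ⊤ (π ⁻¹ᵁ V) le_top ((Scheme.ΓSpecIso (CommRingCat.of R[X])).inv (Polynomial.C r)) = _
        rw [h6]
        have h8 : (Line R).hom.appTop ≫ y.appLE ⊤ (π ⁻¹ᵁ V) le_top = q.appLE ⊤ V le_top ≫ π.app V := by
          rw [Scheme.Hom.app_eq_appLE π]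
          refine Eq.trans ?_ h1.w.symm
          congr 1
        exact congr($h8 ((Scheme.ΓSpecIso (CommRingCat.of R)).inv r))
      rw [h7]
      exact hA _
    have hψX : ψ Polynomial.X ∈ T := by
      have h8 : ψ Polynomial.X = resO (le_top : π ⁻¹ᵁ V ≤ ⊤) (y.appTop (lineFn Polynomial.X)) := by
        change y.appLE ⊤ (π ⁻¹ᵁ V) le_top (lineFn Polynomial.X) =
          Y.presheaf.map (homOfLE le_top).op (y.appTop (lineFn Polynomial.X))
        have h9 := appLE_map_top y (U := ⊤) (W := π ⁻¹ᵁ V) le_top (lineFn Polynomial.X)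
        rw [← h9]
        have h10 : (Line R).left.presheaf.map (homOfLE (le_top : (⊤ : (Line R).left.Opens) ≤ ⊤)).op = 𝟙 _ :=
          (Line R).left.presheaf.map_id _
        rw [h10]; rfl
      rw [h8]; exact hX
    have h3 : ∀ P : R[X], ψ P ∈ T := by
      intro P
      induction P using Polynomial.induction_on with
      | C a => exact hψC a
      | add p q hp hq => rw [map_add]; exact T.add_mem hp hq
      | monomial n a h => rw [map_mul, map_pow]; exact T.mul_mem (hψC a) (T.pow_mem hψX _)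
    exact h3 P

end Gen

section App

variable {X : Scheme.{u}} {A B D : X.Modules}

theorem comp_app' (φ : A ⟶ B) (ψ : B ⟶ D) (V : X.Opens) (x : Γ(A, V)) : (φ ≫ ψ).app V x = ψ.app V (φ.app V x) := rfl

theorem app_kernel (φ : A ⟶ B) (V : X.Opens) (k : Γ(kernel φ, V)) : φ.app V ((kernel.ι φ).app V k) = 0 := by
  rw [← comp_app', kernel.condition]; rfl

theorem smul_inj {L : Scheme.{u}} (y : X ⟶ L) [IsAffine L] {M : X.Modules} (hM : Coh.IsQCoh M)
    (hfl : FlatMod.IsFlatOver y M) {x : Γ(L, ⊤)} (hx : x ∈ nonZeroDivisors Γ(L, ⊤)) {U : X.Opens} (hU : IsAffineOpen U) :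
    Function.Injective (fun m : Γ(M, U) => resO (le_top : U ≤ ⊤) (y.appTop x) • m) := by
  letI i1 : Algebra Γ(L, ⊤) Γ(X, U) := (y.appLE ⊤ U le_top).hom.toAlgebra
  letI i2 : Module Γ(L, ⊤) Γ(M, U) := Module.compHom _ (y.appLE ⊤ U le_top).hom
  haveI : IsScalarTower Γ(L, ⊤) Γ(X, U) Γ(M, U) := ⟨fun a b c => mul_smul _ _ _⟩
  have h1 : Module.Flat Γ(L, ⊤) Γ(M, U) :=
    Groth.Agent.Ega43.FibSch2.flat_sections (f := y) (F := M) hM hfl (isAffineOpen_top _) hU le_top rfl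
  have h3 := Module.Flat.isSMulRegular_of_nonZeroDivisors (M := Γ(M, U)) hx
  intro m m' hm
  apply h3
  have h4 : y.appLE ⊤ U le_top x = resO (le_top : U ≤ ⊤) (y.appTop x) := by
    have h9 := appLE_map_top y (U := ⊤) (W := U) le_top x
    have h10 : L.presheaf.map (homOfLE (le_top : (⊤ : L.Opens) ≤ ⊤)).op = 𝟙 _ := L.presheaf.map_id _
    rw [h10] at h9
    exact h9
  change y.appLE ⊤ U le_top x • m = y.appLE ⊤ U le_top x • m'
  rw [h4]
  exact hm

end App

section Main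

variable {R : Type u} [CommRing R] {C S CR : Scheme.{u}} {f : C ⟶ S} {h : Spec (CommRingCat.of R) ⟶ S}
  {K : Precoverage Scheme.{u}} [K.HasIsos] (Φ : Theta K R h ⥤ᵇ ModSt.Coh f)
  {p : CR ⟶ C} {q : CR ⟶ Spec (CommRingCat.of R)} (hpb : IsPullback p q f h)

/-- The modules on `C_R`. -/
noncomputable abbrev PP (b : (Theta K R h).obj) : CR.Modules := (Scheme.Modules.pushforward (pi Φ hpb b)).obj (ob Φ b).E

/-- The comparison maps as morphisms of modules on `C_R`. -/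
noncomputable def cmH {b b' : (Theta K R h).obj} (φ : b ⟶ b') : PP Φ hpb b' ⟶ PP Φ hpb b :=
  (Scheme.Modules.pushforward (pi Φ hpb b')).map (ar Φ φ).c ≫
    (Scheme.Modules.pushforwardComp (ar Φ φ).top (pi Φ hpb b')).hom.app _ ≫
    (Scheme.Modules.pushforwardCongr (pi_map Φ hpb φ)).hom.app _

theorem cmH_app {b b' : (Theta K R h).obj} (φ : b ⟶ b') (V : CR.Opens) (m : Γ((ob Φ b').E, pV Φ hpb V b')) :
    (cmH Φ hpb φ).app V m = cm Φ hpb V φ m := by
  have h1 := K927.ModSt.ap_congr_app (pi_map Φ hpb φ) (ob Φ b).E V (ap (ar Φ φ).c (pV Φ hpb V b') m) le_rfl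
    (pV_eq Φ hpb V φ).le
  rw [rs_refl] at h1
  exact h1

/-- The defect of homogeneity of degree `n`. -/
noncomputable def θ (n : ℤ) : PP Φ hpb (v0 R h K) ⟶ PP Φ hpb (v1 R h K) :=
  cmH Φ hpb (aβ R h K) - cmH Φ hpb (aα R h K) ≫ (Scheme.Modules.pushforward (pi Φ hpb (v1 R h K))).map
    (smulHom (ob Φ (v1 R h K)).E ((qq Φ (v1 R h K)).appTop (en (aα R h K) (aβ R h K) n)))

theorem θ_app (n : ℤ) (V : CR.Opens) (m : Γ((ob Φ (v0 R h K)).E, pV Φ hpb V (v0 R h K))) :
    (θ Φ hpb n).app V m = cm Φ hpb V (aβ R h K) m -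
      fb Φ hpb V (v1 R h K) (en (aα R h K) (aβ R h K) n) • cm Φ hpb V (aα R h K) m := by
  rw [← cmH_app, ← cmH_app]
  rfl

theorem isHg_iff (n : ℤ) (V : CR.Opens) (m : Γ((ob Φ (v0 R h K)).E, pV Φ hpb V (v0 R h K))) :
    IsHg Φ hpb n V m ↔ ∃ k : Γ(kernel (θ Φ hpb n), V), (kernel.ι (θ Φ hpb n)).app V k = m := by
  constructor
  · intro h1
    have h2 : (θ Φ hpb n).app V m = 0 := by
      rw [θ_app, h1, sub_self]
    exact Groth.Agent.Smoothlim.ModKer.exists_of_app_eq_zero (θ Φ hpb n) V m h2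
  · rintro ⟨k, hk⟩
    have h1 : (θ Φ hpb n).app V m = 0 := by
      rw [← hk]; exact app_kernel (θ Φ hpb n) V k
    rw [θ_app] at h1
    exact sub_eq_zero.1 h1

/-- The function of degree one. -/
noncomputable def sX : Γ((ob Φ (v0 R h K)).XT, ⊤) := (qq Φ (v0 R h K)).appTop (lineFn Polynomial.X)

theorem fb_X (V : CR.Opens) : fb Φ hpb V (v0 R h K) (lineFn Polynomial.X) = resO le_top (sX Φ (h := h) (K := K)) := rfl

theorem isHg_s (n : ℤ) (V : CR.Opens) (m : Γ((ob Φ (v0 R h K)).E, pV Φ hpb V (v0 R h K))) (hm : IsHg Φ hpb n V m) :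
    IsHg Φ hpb (n + 1) V (resO (le_top : pV Φ hpb V (v0 R h K) ≤ ⊤) (sX Φ (h := h) (K := K)) • m) := by
  have h1 : (aβ R h K).base.left.appTop (lineFn Polynomial.X) =
      en (aα R h K) (aβ R h K) 1 * (aα R h K).base.left.appTop (lineFn Polynomial.X) :=
    fn_nbase' (K := K) (qb (u0 K (lineAction R))) (rb (u0 K (lineAction R)))
  rw [IsHg, ← fb_X Φ hpb, fb_cm, fb_cm, hm, smul_smul, smul_smul, ← map_mul, ← map_mul, h1, en_add]
  congr 2
  ring

theorem isAffineHom_pi (b : (Theta K R h).obj) (hb : IsAffineHom b.base.hom) : IsAffineHom (pi Φ hpb b) :=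
  MorphismProperty.of_isPullback (isPullback_pi Φ hpb b).flip hb

theorem isQCoh_PP (b : (Theta K R h).obj) (hb : IsAffineHom b.base.hom) : Coh.IsQCoh (PP Φ hpb b) := by
  haveI := isAffineHom_pi Φ hpb b hb
  exact Groth.Agent.Ega1.QcqsPush.isQCoh_pushforward _ _
    (Groth.Agent.PerfC.FPSections.isQCoh_of_isFP (Φ.obj b).property.2)

theorem ι_cond (n : ℤ) : (kernel.ι (θ Φ hpb n) ≫ (Scheme.Modules.pushforward (pi Φ hpb (v0 R h K))).map
    (smulHom (ob Φ (v0 R h K)).E (sX Φ))) ≫ θ Φ hpb (n + 1) = 0 := by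
  refine Groth.Agent.Smoothlim.ModKer.eq_zero_of_app _ fun V k => ?_
  obtain ⟨m, hm⟩ : ∃ m : Γ((ob Φ (v0 R h K)).E, pV Φ hpb V (v0 R h K)), (kernel.ι (θ Φ hpb n)).app V k = m := ⟨_, rfl⟩
  have h1 : IsHg Φ hpb n V m := (isHg_iff Φ hpb n V m).2 ⟨k, hm⟩
  have h2 := isHg_s Φ hpb n V _ h1
  have h3 := θ_app Φ hpb (n + 1) V (resO (le_top : pV Φ hpb V (v0 R h K) ≤ ⊤) (sX Φ (h := h) (K := K)) • m)
  rw [h2, sub_self] at h3
  rw [comp_app', comp_app', hm]
  exact h3

/-- The grading. -/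
noncomputable def gr : Gr (pi Φ hpb (v0 R h K)) (sX Φ (h := h) (K := K)) (ob Φ (v0 R h K)).E where
  K n := kernel (θ Φ hpb n)
  κ n := kernel.ι (θ Φ hpb n)
  mono n := inferInstance
  qc n := Groth.Agent.PerfA.QCohSerre.isQCoh_kernel _ (isQCoh_PP Φ hpb _ inferInstance)
    (isQCoh_PP Φ hpb _ isAffineHom_gm_line)
  «ι» n := kernel.lift (θ Φ hpb (n + 1)) _ (ι_cond Φ hpb n)
  comm n := kernel.lift_ι _ _ _
  dec V m := by
    obtain ⟨c, ⟨h1, h2⟩, h3⟩ := exists_grade Φ hpb V.2 m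
    exact ⟨c, ⟨fun n => (isHg_iff Φ hpb n V.1 _).1 (h1 n), h2⟩,
      fun c' hc' => h3 c' ⟨fun n => (isHg_iff Φ hpb n V.1 _).2 (hc'.1 n), hc'.2⟩⟩
  gen V T hA hX b := gen_geom (isPullback_pi Φ hpb (v0 R h K)) V.2 T hA hX b

theorem finite_sections (V : CR.affineOpens) :
    Module.Finite Γ((ob Φ (v0 R h K)).XT, pi Φ hpb (v0 R h K) ⁻¹ᵁ V.1)
      Γ((ob Φ (v0 R h K)).E, pi Φ hpb (v0 R h K) ⁻¹ᵁ V.1) := by
  haveI := isAffineHom_pi Φ hpb (v0 R h K) inferInstance
  exact Groth.Agent.CohqA.FinSec.finite_sections (V.2.preimage _)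
    (Groth.Agent.PerfC.FPSections.isQCoh_of_isFP (Φ.obj (v0 R h K)).property.2)
    (Groth.Agent.Models2.FPCoh.isFT_of_isFP (Φ.obj (v0 R h K)).property.2)

theorem isFlatOver_qq (b : (Theta K R h).obj) : FlatMod.IsFlatOver (qq Φ b) (ob Φ b).E := by
  have key : ∀ {T T' : Over S} (e : T = T') (q' : (ob Φ b).XT ⟶ T.left), FlatMod.IsFlatOver q' (ob Φ b).E →
      FlatMod.IsFlatOver (q' ≫ (eqToHom e).left) (ob Φ b).E := by
    rintro T _ rfl q' hq
    have h1 : q' ≫ (eqToHom (rfl : T = T)).left = q' := by simp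
    rw [h1]; exact hq
  exact key (Φ.w_obj b) _ (Φ.obj b).property.1

theorem X_mem : (lineFn (R := R) Polynomial.X : Γ((Line R).left, ⊤)) ∈ nonZeroDivisors Γ((Line R).left, ⊤) := by
  rw [mem_nonZeroDivisors_iff_right]
  intro z hz
  have h1 : (Scheme.ΓSpecIso (CommRingCat.of R[X])).hom z * Polynomial.X = 0 := by
    have h2 := congrArg (Scheme.ΓSpecIso (CommRingCat.of R[X])).hom hz
    rw [map_mul, map_zero] at h2
    have h3 : (Scheme.ΓSpecIso (CommRingCat.of R[X])).hom (lineFn (R := R) Polynomial.X) = Polynomial.X :=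
      Iso.inv_hom_id_apply _ _
    rw [h3] at h2
    exact h2
  have h2 : (Scheme.ΓSpecIso (CommRingCat.of R[X])).hom z = 0 :=
    (mem_nonZeroDivisors_iff_right.1 Polynomial.X_mem_nonzeroDivisors) _ h1
  have h3 : (Scheme.ΓSpecIso (CommRingCat.of R[X])).inv ((Scheme.ΓSpecIso (CommRingCat.of R[X])).hom z) = z :=
    Iso.hom_inv_id_apply _ _
  rw [← h3, h2, map_zero]

theorem smul_injective (V : CR.affineOpens) :
    Function.Injective (fun m : Γ((ob Φ (v0 R h K)).E, pi Φ hpb (v0 R h K) ⁻¹ᵁ V.1) =>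
      resO (le_top : pi Φ hpb (v0 R h K) ⁻¹ᵁ V.1 ≤ ⊤) (sX Φ (h := h) (K := K)) • m) := by
  haveI := isAffineHom_pi Φ hpb (v0 R h K) inferInstance
  haveI : IsAffine (v0 R h K).base.left := inferInstanceAs (IsAffine (Spec (CommRingCat.of R[X])))
  exact smul_inj (qq Φ (v0 R h K)) (Groth.Agent.PerfC.FPSections.isQCoh_of_isFP (Φ.obj (v0 R h K)).property.2)
    (isFlatOver_qq Φ _) X_mem (V.2.preimage _)

end Main

end K787.ThData
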