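import Groth.Agent.ThetaS.K787.LaurBC
import Groth.Agent.ThetaS.K881.ThetaTr
import Groth.Agent.ThetaS.K881.ThetaCrit

/-!
# The sections of the modules attached to a functor `Θ_R ⟶ Coh f`
-/

set_option autoImplicit false
set_option backward.isDefEq.respectTransparency false
set_option backward.isDefEq.respectTransparency.types false
set_option linter.style.haveILetI false

universe u

open CategoryTheory CategoryTheory.Limits MonoidalCategory CartesianMonoidalCategory MonObj GrpObj AlgebraicGeometry Opposite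
open scoped TensorProduct Polynomial

namespace K787.ThFam

open ThetaS K951.Pts K943.QuotAtlas K943.QuotCover K881.ThetaTr K881.ThetaCrit Groth.Agent.Desc.QD

attribute [local instance] K951.Pts.algΓ

section Gen

theorem appLE_map_top {X Y : Scheme.{u}} (g : X ⟶ Y) {U : Y.Opens} {W : X.Opens} (e : W ≤ g ⁻¹ᵁ U) (a : Γ(Y, ⊤)) :
    g.appLE U W e (Y.presheaf.map (homOfLE (le_top : U ≤ ⊤)).op a) =
      X.presheaf.map (homOfLE (le_top : W ≤ ⊤)).op (g.appTop a) := by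
  have h1 : Y.presheaf.map (homOfLE (le_top : U ≤ ⊤)).op ≫ g.appLE U W e =
      g.appTop ≫ X.presheaf.map (homOfLE (le_top : W ≤ ⊤)).op := by
    rw [Scheme.Hom.map_appLE, Scheme.Hom.appTop, Scheme.Hom.app_eq_appLE, Scheme.Hom.appLE_map]
  exact congr($h1 a)

variable {C S : Scheme.{u}} {f : C ⟶ S} {A B D : ModSt.Obj f}

theorem cs_comp (g : A ⟶ B) (g' : B ⟶ D) {U : D.XT.Opens} {V : B.XT.Opens} {W : A.XT.Opens}
    (e : W ≤ (g ≫ g').top ⁻¹ᵁ U) (e1 : V ≤ g'.top ⁻¹ᵁ U) (e2 : W ≤ g.top ⁻¹ᵁ V) (m : Γ(D.E, U)) :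
    K927.ModSt.cs (g ≫ g').top (g ≫ g').c e m = K927.ModSt.cs g.top g.c e2 (K927.ModSt.cs g'.top g'.c e1 m) := by
  have h1 := ap_rs g.c e1 (ap g'.c U m : Γ(B.E, g'.top ⁻¹ᵁ U))
  change _ = rs A.E e2 (ap g.c V (rs B.E e1 (ap g'.c U m : Γ(B.E, g'.top ⁻¹ᵁ U))) : Γ(A.E, g.top ⁻¹ᵁ V))
  rw [h1]
  exact (rs_rs A.E (g.top.preimage_mono e1) e2 _).symm

theorem cs_rs (g : A ⟶ B) {U U' : B.XT.Opens} {V V' : A.XT.Opens} (hU : U' ≤ U) (hV : V' ≤ V)
    (e : V ≤ g.top ⁻¹ᵁ U) (e' : V' ≤ g.top ⁻¹ᵁ U') (m : Γ(B.E, U)) :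
    K927.ModSt.cs g.top g.c e' (rs B.E hU m) = rs A.E hV (K927.ModSt.cs g.top g.c e m) := by
  have h1 := ap_rs g.c hU m
  change rs A.E e' (ap g.c U' (rs B.E hU m) : Γ(A.E, g.top ⁻¹ᵁ U')) = rs A.E hV (rs A.E e (ap g.c U m : Γ(A.E, g.top ⁻¹ᵁ U)))
  rw [h1, rs_rs]
  exact rs_rs A.E (g.top.preimage_mono hU) e' _

end Gen

section Fam

variable {R : Type u} [CommRing R] {C S CR : Scheme.{u}} {f : C ⟶ S} {h : Spec (CommRingCat.of R) ⟶ S}
  {K : Precoverage Scheme.{u}} [K.HasIsos] (Φ : Theta K R h ⥤ᵇ ModSt.Coh f)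
  {p : CR ⟶ C} {q : CR ⟶ Spec (CommRingCat.of R)} (hpb : IsPullback p q f h)
  {b b' b'' : (Theta K R h).obj}

/-- The values of the functor. -/
abbrev ob (b : (Theta K R h).obj) : ModSt.Obj f := (Φ.obj b).obj

/-- The arrows. -/
abbrev ar (φ : b ⟶ b') : ob Φ b ⟶ ob Φ b' := (Φ.map φ).hom

/-- The projection to the base. -/
noncomputable def qq (b : (Theta K R h).obj) : (ob Φ b).XT ⟶ b.base.left := (ob Φ b).q ≫ (eqToHom (Φ.w_obj b)).left

theorem ar_base (φ : b ⟶ b') : (ar Φ φ).base ≫ eqToHom (Φ.w_obj b') = eqToHom (Φ.w_obj b) ≫ (Over.map h).map φ.base := by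
  have h1 := p_map_eq Φ φ
  have h2 : (ar Φ φ).base = (ModSt.Coh f).p.map (Φ.map φ) := rfl
  rw [h2, h1, Category.assoc, Category.assoc, eqToHom_trans, eqToHom_refl]
  exact congrArg _ (Category.comp_id _)

theorem qq_map (φ : b ⟶ b') : (ar Φ φ).top ≫ qq Φ b' = qq Φ b ≫ φ.base.left := by
  have h1 := congrArg (fun t => t.left) (ar_base Φ φ)
  dsimp only at h1
  rw [Over.comp_left, Over.comp_left] at h1
  rw [qq, qq, ← Category.assoc, (ar Φ φ).w_q, Category.assoc, h1, Category.assoc]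
  rfl

theorem isPullback_qq (b : (Theta K R h).obj) : IsPullback (ob Φ b).p (qq Φ b) f (b.base.hom ≫ h) := by
  have h1 : (eqToHom (Φ.w_obj b)).left ≫ (b.base.hom ≫ h) = (ob Φ b).base.hom := Over.w (eqToHom (Φ.w_obj b))
  have h2 : IsPullback (𝟙 (ob Φ b).XT) (ob Φ b).q (qq Φ b) (eqToHom (Φ.w_obj b)).left :=
    IsPullback.of_horiz_isIso ⟨by rw [qq, Category.id_comp]⟩
  have h3 := (ob Φ b).isPullback
  have h4 : IsPullback (ob Φ b).p ((ob Φ b).q ≫ (eqToHom (Φ.w_obj b)).left) f (b.base.hom ≫ h) := by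
    refine IsPullback.of_iso h3 (Iso.refl _) (Iso.refl _) (asIso (eqToHom (Φ.w_obj b)).left) (Iso.refl _) ?_ ?_ ?_ ?_
    · simp
    · simp
    · simp
    · rw [asIso_hom, h1, Iso.refl_hom, Category.comp_id]
  exact h4

/-- The projection to `C_R`. -/
noncomputable def pi (b : (Theta K R h).obj) : (ob Φ b).XT ⟶ CR :=
  hpb.lift (ob Φ b).p (qq Φ b ≫ b.base.hom) (by rw [Category.assoc]; exact (isPullback_qq Φ b).w)

theorem pi_p (b : (Theta K R h).obj) : pi Φ hpb b ≫ p = (ob Φ b).p := hpb.lift_fst _ _ _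

theorem pi_q (b : (Theta K R h).obj) : pi Φ hpb b ≫ q = qq Φ b ≫ b.base.hom := hpb.lift_snd _ _ _

theorem pi_map (φ : b ⟶ b') : (ar Φ φ).top ≫ pi Φ hpb b' = pi Φ hpb b := by
  apply hpb.hom_ext
  · rw [Category.assoc, pi_p, pi_p, (ar Φ φ).w_p]
  · rw [Category.assoc, pi_q, pi_q, ← Category.assoc, qq_map, Category.assoc, Over.w]

theorem isPullback_pi (b : (Theta K R h).obj) : IsPullback (pi Φ hpb b) (qq Φ b) q b.base.hom :=
  IsPullback.of_right (by rw [pi_p]; exact isPullback_qq Φ b) (pi_q Φ hpb b) hpb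

theorem isPullback_top (φ : b ⟶ b') : IsPullback (ar Φ φ).top (qq Φ b) (qq Φ b') φ.base.left :=
  IsPullback.of_right (h₁₂ := (ob Φ b').p) (h₂₂ := b'.base.hom ≫ h) (v₁₃ := f)
    (by rw [(ar Φ φ).w_p, ← Category.assoc, Over.w]; exact isPullback_qq Φ b) (qq_map Φ φ) (isPullback_qq Φ b')

/-- The open set over `V`. -/
noncomputable abbrev pV (V : CR.Opens) (b : (Theta K R h).obj) : (ob Φ b).XT.Opens := pi Φ hpb b ⁻¹ᵁ V

theorem pV_eq (V : CR.Opens) (φ : b ⟶ b') : pV Φ hpb V b = (ar Φ φ).top ⁻¹ᵁ (pV Φ hpb V b') := by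
  rw [pV, ← pi_map Φ hpb φ]; rfl

/-- Functions on the base as functions over `V`. -/
noncomputable def fb (V : CR.Opens) (b : (Theta K R h).obj) : Γ(b.base.left, ⊤) →+* Γ((ob Φ b).XT, pV Φ hpb V b) :=
  ((ob Φ b).XT.presheaf.map (homOfLE (le_top : pV Φ hpb V b ≤ ⊤)).op).hom.comp (qq Φ b).appTop.hom

/-- The comparison maps on sections. -/
noncomputable def cm (V : CR.Opens) (φ : b ⟶ b') :
    Γ((ob Φ b').E, pV Φ hpb V b') →+ Γ((ob Φ b).E, pV Φ hpb V b) :=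
  K927.ModSt.cs (ar Φ φ).top (ar Φ φ).c (pV_eq Φ hpb V φ).le

theorem fb_cm (V : CR.Opens) (φ : b ⟶ b') (a : Γ(b'.base.left, ⊤)) (m : Γ((ob Φ b').E, pV Φ hpb V b')) :
    cm Φ hpb V φ (fb Φ hpb V b' a • m) = fb Φ hpb V b (φ.base.left.appTop a) • cm Φ hpb V φ m := by
  rw [cm, K927.ModSt.cs_smul]
  congr 1
  have h1 : (qq Φ b).appTop (φ.base.left.appTop a) = (ar Φ φ).top.appTop ((qq Φ b').appTop a) := by
    have h2 : ((ar Φ φ).top ≫ qq Φ b').appTop a = (qq Φ b ≫ φ.base.left).appTop a := by rw [qq_map]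
    rw [Scheme.Hom.comp_appTop, Scheme.Hom.comp_appTop] at h2
    exact h2.symm
  change _ = (ob Φ b).XT.presheaf.map (homOfLE (le_top : pV Φ hpb V b ≤ ⊤)).op ((qq Φ b).appTop (φ.base.left.appTop a))
  rw [h1]
  exact appLE_map_top _ _ _

theorem cm_id (V : CR.Opens) (m : Γ((ob Φ b).E, pV Φ hpb V b)) : cm Φ hpb V (𝟙 b) m = m := by
  have h1 : ar Φ (𝟙 b) = 𝟙 (ob Φ b) := by rw [ar, Φ.map_id]; rfl
  have key : ∀ (g : ob Φ b ⟶ ob Φ b) (_ : g = 𝟙 (ob Φ b)) (e : pV Φ hpb V b ≤ g.top ⁻¹ᵁ (pV Φ hpb V b)),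
      K927.ModSt.cs g.top g.c e m = m := by
    rintro g rfl e
    exact rs_refl _ _ _
  exact key _ h1 _

theorem cm_comp (V : CR.Opens) (φ : b ⟶ b') (ψ : b' ⟶ b'') (m : Γ((ob Φ b'').E, pV Φ hpb V b'')) :
    cm Φ hpb V (φ ≫ ψ) m = cm Φ hpb V φ (cm Φ hpb V ψ m) := by
  have h1 : ar Φ (φ ≫ ψ) = ar Φ φ ≫ ar Φ ψ := by rw [ar, Φ.map_comp]; rfl
  have key : ∀ (g : ob Φ b ⟶ ob Φ b'') (_ : g = ar Φ φ ≫ ar Φ ψ) (e : pV Φ hpb V b ≤ g.top ⁻¹ᵁ (pV Φ hpb V b'')),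
      K927.ModSt.cs g.top g.c e m = cm Φ hpb V φ (cm Φ hpb V ψ m) := by
    rintro g rfl e
    exact cs_comp _ _ _ _ _ _
  exact key _ h1 _

/-- Restriction. -/
theorem cm_rs {V V' : CR.Opens} (hV : V' ≤ V) (φ : b ⟶ b') (m : Γ((ob Φ b').E, pV Φ hpb V b')) :
    cm Φ hpb V' φ (rs (ob Φ b').E ((pi Φ hpb b').preimage_mono hV) m) =
      rs (ob Φ b).E ((pi Φ hpb b).preimage_mono hV) (cm Φ hpb V φ m) := by
  exact cs_rs _ _ _ _ _ _

theorem fb_rs {V V' : CR.Opens} (hV : V' ≤ V) (a : Γ(b.base.left, ⊤)) (m : Γ((ob Φ b).E, pV Φ hpb V b)) :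
    rs (ob Φ b).E ((pi Φ hpb b).preimage_mono hV) (fb Φ hpb V b a • m) =
      fb Φ hpb V' b a • rs (ob Φ b).E ((pi Φ hpb b).preimage_mono hV) m := by
  rw [rs_smul]
  congr 1
  change ((ob Φ b).XT.presheaf.map _ ((ob Φ b).XT.presheaf.map _ _)) = _
  rw [← CommRingCat.comp_apply, ← Functor.map_comp]
  rfl

end Fam

end K787.ThFam
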