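import Groth.Agent.ThetaS.K787.ThFam
import Groth.Agent.PerfC.FPSections

/-!
# The grading of the sections of the module attached to a functor `Θ_R ⟶ Coh f`
-/

set_option autoImplicit false
set_option backward.isDefEq.respectTransparency false
set_option backward.isDefEq.respectTransparency.types false
set_option linter.style.haveILetI false

universe u

open CategoryTheory CategoryTheory.Limits MonoidalCategory CartesianMonoidalCategory MonObj GrpObj AlgebraicGeometry Opposite
open scoped TensorProduct Polynomial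

namespace K787.ThGr

open ThetaS K951.Pts K943.QuotAtlas K943.QuotCover K881.ThetaTr K881.ThetaCrit Groth.Agent.Desc.QD K787.ThFam

attribute [local instance] K951.Pts.algΓ

section Alg

variable {M0 M1 M2 B1 B2 : Type*} [AddCommGroup M0] [AddCommGroup M1] [AddCommGroup M2] [CommRing B1] [CommRing B2]
  [Module B1 M1] [Module B2 M2] {a b : M0 →+ M1} {r s t : M1 →+ M2} {d : M1 →+ M0} {l : ℤ → B1} {l2 l3 : ℤ → B2}

/-- The grading attached to a descent datum, algebraically. -/
theorem grade (hE1 : Function.Bijective fun m : ℤ →₀ M0 => m.sum fun n x => l n • a x)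
    (hE2 : Function.Injective fun m : ℤ →₀ M1 => m.sum fun n x => l2 n • r x)
    (hsa : ∀ x, s (a x) = r (b x)) (hta : ∀ x, t (a x) = r (a x)) (hsb : ∀ x, s (b x) = t (b x))
    (hr : ∀ n x, r (l n • x) = l3 n • r x) (hs : ∀ n x, s (l n • x) = l2 n • s x)
    (ht : ∀ n x, t (l n • x) = l2 n • l3 n • t x)
    (hda : ∀ x, d (a x) = x) (hdb : ∀ x, d (b x) = x) (hd : ∀ n x, d (l n • x) = d x) (m : M0) :
    ∃! c : ℤ →₀ M0, (∀ n, b (c n) = l n • a (c n)) ∧ c.sum (fun _ x => x) = m := by
  have huniq : ∀ c : ℤ →₀ M0, (∀ n, b (c n) = l n • a (c n)) → (c.sum fun n x => l n • a x) = b (c.sum fun _ x => x) := by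
    intro c hc
    rw [Finsupp.sum, Finsupp.sum, map_sum]
    exact Finset.sum_congr rfl fun n _ => (hc n).symm
  obtain ⟨c, hc⟩ := hE1.2 (b m)
  dsimp only at hc
  have h1 : ∀ n, b (c n) = l n • a (c n) := by
    let c1 : ℤ →₀ M1 := c.mapRange b (map_zero b)
    let c2 : ℤ →₀ M1 := Finsupp.onFinset c.support (fun n => l n • a (c n)) (fun n hn => by
      rw [Finsupp.mem_support_iff]
      intro h0
      rw [h0, map_zero, smul_zero] at hn
      exact hn rfl)
    have h2 : c1 = c2 := by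
      apply hE2
      change (c1.sum fun n x => l2 n • r x) = (c2.sum fun n x => l2 n • r x)
      rw [Finsupp.sum_mapRange_index (fun n => by rw [map_zero, smul_zero]),
        Finsupp.onFinset_sum _ (fun n => by rw [map_zero, smul_zero])]
      have h3 : s (b m) = c.sum fun n x => l2 n • r (b x) := by
        rw [← hc, Finsupp.sum, map_sum, Finsupp.sum]
        exact Finset.sum_congr rfl fun n _ => by rw [hs, hsa]
      have h4 : t (b m) = c.support.sum fun n => l2 n • r (l n • a (c n)) := by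
        rw [← hc, Finsupp.sum, map_sum]
        exact Finset.sum_congr rfl fun n _ => by rw [ht, hta, hr]
      rw [← h3, ← h4, hsb]
    intro n
    exact congrArg (fun t => t n) h2
  refine ⟨c, ⟨h1, ?_⟩, ?_⟩
  · have h5 := congrArg d hc
    rw [hdb] at h5
    rw [← h5, Finsupp.sum, Finsupp.sum, map_sum]
    exact Finset.sum_congr rfl fun n _ => by rw [hd, hda]
  · rintro c' ⟨h6, h7⟩
    apply hE1.1
    change (c'.sum fun n x => l n • a x) = c.sum fun n x => l n • a x
    rw [huniq c' h6, h7, hc]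

end Alg

section Arr

variable {R : Type u} [CommRing R] {K : Precoverage Scheme.{u}} [K.HasIsos]
  {b : AlgSt.QuotObj K (Gm R) (lineAction R)}

/-- The point of `G_m` by which the two arrows of `b × u0` differ. -/
theorem gg_qb (α : b ⟶ u0 K (lineAction R)) : gg (qb b ≫ α) (rb b) = toG α := by
  have h1 : sec (rb b) = lift (1 : b.P ⟶ Gm R) (𝟙 b.P) := by
    have h2 : ntop (rb b) = Gm R ◁ b.φ := rfl
    have h3 := sec_top (rb b)
    have h4 := sec_π (rb b)
    apply CartesianMonoidalCategory.hom_ext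
    · rw [lift_fst]
      have h5 : (sec (rb b) ≫ ntop (rb b)) ≫ fst (Gm R) (Line R) = lift 1 (nbase (rb b)) ≫ fst (Gm R) (Line R) := by
        rw [h3]
      rw [h2, Category.assoc, whiskerLeft_fst, lift_fst] at h5
      exact h5
    · rw [lift_snd]
      exact h4
  have h6 : toG (qb b ≫ α) = b.act.act ≫ toG α := by
    change (b.act.act ≫ ntop α) ≫ fst _ _ = b.act.act ≫ ntop α ≫ fst _ _
    rw [Category.assoc]
  rw [gg, h6, h1, ← Category.assoc]
  have h7 := sm_one b.act (𝟙 b.P)
  rw [sm] at h7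
  rw [h7]; exact Category.id_comp _

theorem isPullback_toG (α : b ⟶ u0 K (lineAction R)) :
    IsPullback b.π.left (toG α).left b.base.hom (Gm R).hom := by
  have H1 : IsPullback (ntop α).left b.π.left (snd (Gm R) (Line R)).left (nbase α).left :=
    (ncart α).map (Over.forget _)
  have H2 : IsPullback (fst (Gm R) (Line R)).left (snd (Gm R) (Line R)).left (Gm R).hom (Line R).hom :=
    IsPullback.of_hasPullback _ _
  have H3 := H1.paste_horiz H2
  rw [Over.w, ← Over.comp_left] at H3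
  exact H3.flip

theorem isPullback_gg (α : b ⟶ u0 K (lineAction R)) :
    IsPullback (qb b).base.left (gg (qb b ≫ α) (rb b)).left b.base.hom (Gm R).hom := by
  rw [gg_qb]; exact isPullback_toG α

/-- The universal functions. -/
noncomputable def en (α β : b ⟶ u0 K (lineAction R)) (n : ℤ) : Γ(b.base.left, ⊤) := fn (B := Lau R) (gg α β) (zPow R n)

theorem en_trans (α β γ : b ⟶ u0 K (lineAction R)) (n : ℤ) : en α γ n = en β γ n * en α β n := by
  rw [en, gg_trans α β γ, fn_mul_z]; rfl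

theorem en_refl (α : b ⟶ u0 K (lineAction R)) (n : ℤ) : en α α n = 1 := by
  rw [en, gg_refl, fn_one_z]

theorem en_precomp {b' : AlgSt.QuotObj K (Gm R) (lineAction R)} (φ : b' ⟶ b) (α β : b ⟶ u0 K (lineAction R)) (n : ℤ) :
    φ.base.left.appTop (en α β n) = en (φ ≫ α) (φ ≫ β) n := by
  rw [en, en, gg_precomp, fn_comp]

theorem en_add (α β : b ⟶ u0 K (lineAction R)) (m n : ℤ) : en α β (m + n) = en α β m * en α β n := by
  rw [en, en, en, ← map_mul, zPow_mul]

theorem en_zero (α β : b ⟶ u0 K (lineAction R)) : en α β 0 = 1 := by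
  rw [en, zPow_zero, map_one]

theorem fn_nbase' (α β : b ⟶ u0 K (lineAction R)) : fn (B := R[X]) (nbase β) Polynomial.X =
    en α β 1 * fn (B := R[X]) (nbase α) Polynomial.X := fn_nbase α β

end Arr

section Main

variable {R : Type u} [CommRing R] {C S CR : Scheme.{u}} {f : C ⟶ S} {h : Spec (CommRingCat.of R) ⟶ S}
  {K : Precoverage Scheme.{u}} [K.HasIsos] (Φ : Theta K R h ⥤ᵇ ModSt.Coh f)
  {p : CR ⟶ C} {q : CR ⟶ Spec (CommRingCat.of R)} (hpb : IsPullback p q f h)

theorem expand_fam {b b' : (Theta K R h).obj} (φ : b ⟶ b') (g : b.base ⟶ Gm R)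
    (H : IsPullback φ.base.left g.left b'.base.hom (Gm R).hom) (hb : IsAffineHom b'.base.hom) {V : CR.Opens}
    (hV : IsAffineOpen V) :
    Function.Bijective (fun m : ℤ →₀ Γ((ob Φ b').E, pV Φ hpb V b') => m.sum fun n x =>
      fb Φ hpb V b (fn (B := Lau R) g (zPow R n)) • cm Φ hpb V φ x) := by
  haveI : IsAffineHom (pi Φ hpb b') := MorphismProperty.of_isPullback (isPullback_pi Φ hpb b').flip hb
  exact LaurBC.expand_geom ((isPullback_top Φ φ).paste_vert H) (hV.preimage (pi Φ hpb b'))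
    (Groth.Agent.PerfC.FPSections.isQCoh_of_isFP (Φ.obj b').property.2) (ar Φ φ).c (ar Φ φ).cart (pV_eq Φ hpb V φ) _

variable (K R h) in
/-- The atlas. -/
noncomputable abbrev v0 : (Theta K R h).obj := u0 K (lineAction R)

variable (K R h) in
/-- `v0 × v0`. -/
noncomputable abbrev v1 : (Theta K R h).obj := u1 K (lineAction R)

variable (K R h) in
/-- `v0 × v0 × v0`. -/
noncomputable abbrev v2 : (Theta K R h).obj := u2 K (lineAction R)

variable (K R h) in
/-- The first arrow. -/
noncomputable abbrev aα : v1 R h K ⟶ v0 R h K := qb (u0 K (lineAction R))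

variable (K R h) in
/-- The second arrow. -/
noncomputable abbrev aβ : v1 R h K ⟶ v0 R h K := rb (u0 K (lineAction R))

/-- Homogeneous sections of degree `n`. -/
def IsHg (n : ℤ) (V : CR.Opens) (m : Γ((ob Φ (v0 R h K)).E, pV Φ hpb V (v0 R h K))) : Prop :=
  cm Φ hpb V (aβ R h K) m = fb Φ hpb V (v1 R h K) (en (aα R h K) (aβ R h K) n) • cm Φ hpb V (aα R h K) m

instance : IsAffineHom (v0 R h K).base.hom := inferInstanceAs (IsAffineHom (Spec.map _))

omit K in
theorem isAffineHom_gm_line : IsAffineHom (Gm R ⊗ Line R).hom := by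
  haveI : IsAffineHom (Gm R).hom := inferInstanceAs (IsAffineHom (Spec.map _))
  haveI : IsAffineHom (Line R).hom := inferInstanceAs (IsAffineHom (Spec.map _))
  haveI : IsAffineHom (pullback.fst (Gm R).hom (Line R).hom) := MorphismProperty.pullback_fst _ _ inferInstance
  rw [Over.tensorObj_hom]
  exact MorphismProperty.comp_mem _ _ _ inferInstance inferInstance

theorem exists_grade {V : CR.Opens} (hV : IsAffineOpen V) (m : Γ((ob Φ (v0 R h K)).E, pV Φ hpb V (v0 R h K))) :
    ∃! c : ℤ →₀ Γ((ob Φ (v0 R h K)).E, pV Φ hpb V (v0 R h K)),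
      (∀ n, IsHg Φ hpb n V (c n)) ∧ c.sum (fun _ x => x) = m := by
  obtain ⟨s, hs1, hs2⟩ := exists_prod (b := u0 K (lineAction R)) (c := u2 K (lineAction R))
    (qb (u1 K (lineAction R)) ≫ rb (u0 K (lineAction R))) (rb (u1 K (lineAction R)))
  obtain ⟨t, ht1, ht2⟩ := exists_prod (b := u0 K (lineAction R)) (c := u2 K (lineAction R))
    (qb (u1 K (lineAction R)) ≫ qb (u0 K (lineAction R))) (rb (u1 K (lineAction R)))
  obtain ⟨d, hd1, hd2⟩ := exists_prod (b := u0 K (lineAction R)) (c := u0 K (lineAction R)) (𝟙 _) (𝟙 _)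
  have key : ∀ {b b' b'' : (Theta K R h).obj} (φ : b ⟶ b') (ψ : b' ⟶ b'') (φ' : b ⟶ b') (ψ' : b' ⟶ b'')
      (_ : φ ≫ ψ = φ' ≫ ψ') (x : Γ((ob Φ b'').E, pV Φ hpb V b'')),
      cm Φ hpb V φ (cm Φ hpb V ψ x) = cm Φ hpb V φ' (cm Φ hpb V ψ' x) := by
    intro b b' b'' φ ψ φ' ψ' e x
    rw [← cm_comp, ← cm_comp, e]
  have kid : ∀ {b b' : (Theta K R h).obj} (φ : b ⟶ b') (ψ : b' ⟶ b)
      (_ : φ ≫ ψ = 𝟙 b) (x : Γ((ob Φ b).E, pV Φ hpb V b)),
      cm Φ hpb V φ (cm Φ hpb V ψ x) = x := by
    intro b b' φ ψ e x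
    rw [← cm_comp, e, cm_id]
  have hP0 := isPullback_gg (K := K) (b := u0 K (lineAction R)) (𝟙 _)
  rw [Category.comp_id] at hP0
  have hP1 := isPullback_gg (K := K) (b := u1 K (lineAction R)) (rb (u0 K (lineAction R)))
  refine grade (a := cm Φ hpb V (aα R h K)) (b := cm Φ hpb V (aβ R h K)) (r := cm Φ hpb V (qb (u1 K (lineAction R)) : v2 R h K ⟶ v1 R h K))
    (s := cm Φ hpb V (s : v2 R h K ⟶ v1 R h K)) (t := cm Φ hpb V (t : v2 R h K ⟶ v1 R h K)) (d := cm Φ hpb V (d : v0 R h K ⟶ v1 R h K))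
    (l := fun n => fb Φ hpb V (v1 R h K) (en (aα R h K) (aβ R h K) n))
    (l2 := fun n => fb Φ hpb V (v2 R h K) (en (qb (u1 K (lineAction R)) ≫ rb (u0 K (lineAction R))) (rb (u1 K (lineAction R))) n))
    (l3 := fun n => fb Φ hpb V (v2 R h K) (en (qb (u1 K (lineAction R)) ≫ qb (u0 K (lineAction R)))
      (qb (u1 K (lineAction R)) ≫ rb (u0 K (lineAction R))) n))
    ?_ ?_ ?_ ?_ ?_ ?_ ?_ ?_ ?_ ?_ ?_ m
  · exact expand_fam Φ hpb (aα R h K) _ hP0 inferInstance hV
  · exact (expand_fam Φ hpb (qb (u1 K (lineAction R)) : v2 R h K ⟶ v1 R h K) _ hP1 isAffineHom_gm_line hV).1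
  · exact fun x => key _ _ _ _ hs1 x
  · exact fun x => key _ _ _ _ ht1 x
  · exact fun x => key _ _ _ _ (hs2.trans ht2.symm) x
  · intro n x
    rw [fb_cm]
    congr 2
    exact en_precomp _ _ _ _
  · intro n x
    rw [fb_cm]
    congr 2
    refine (en_precomp _ _ _ _).trans ?_
    rw [hs1, hs2]
  · intro n x
    rw [fb_cm, smul_smul, ← map_mul]
    congr 2
    refine (en_precomp _ _ _ _).trans ?_
    rw [ht1, ht2, en_trans _ (qb (u1 K (lineAction R)) ≫ rb (u0 K (lineAction R))) _]
  · exact fun x => kid _ _ hd1 x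
  · exact fun x => kid _ _ hd2 x
  · intro n x
    rw [fb_cm]
    have h1 : d.base.left.appTop (en (qb (u0 K (lineAction R))) (rb (u0 K (lineAction R))) n) = 1 := by
      rw [en_precomp, hd1, hd2, en_refl]
    have h2 : fb Φ hpb V (v0 R h K) (d.base.left.appTop (en (aα R h K) (aβ R h K) n)) = 1 := by
      refine (congrArg _ h1).trans (map_one _)
    rw [h2, one_smul]

end Main

end K787.ThGr
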